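import Cfsg.Agent.Lib.CIT.Quot.Shape

/-!
# The quotient of a maximal local acting on `vee`

§3 of `notes/cit_lead.md`: a maximal local with a failure of factorization on `vee` has the shape
`FFShape`.
-/

set_option autoImplicit false
set_option linter.style.haveILetI false
set_option linter.unusedSectionVars false

namespace Cfsg.Lib.CIT

open Subgroup
open Cfsg.Lib

universe u

/-- The quotient of a CIT group by a normal two-subgroup is CIT. -/
theorem IsCIT.quotient {G : Type u} [Group G] [Finite G] (h : IsCIT G) (N : Subgroup G) [N.Normal]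
    (hN : IsPGroup 2 N) : IsCIT (G ⧸ N) := by
  haveI : Fact (Nat.Prime 2) := ⟨Nat.prime_two⟩
  intro t ht c
  obtain ⟨k, r, hr, hkr⟩ := Nat.exists_eq_two_pow_mul_odd (n := orderOf (c : G ⧸ N)) (orderOf_pos _).ne'
  refine ⟨k, Subtype.ext ?_⟩
  show (c : G ⧸ N) ^ 2 ^ k = 1
  by_contra hne
  have hr1 : r ≠ 1 := fun e => hne (by
    rw [e, mul_one] at hkr; rw [← hkr, pow_orderOf_eq_one])
  obtain ⟨p, hp, hpr⟩ := Nat.exists_prime_and_dvd hr1
  haveI := Fact.mk hp
  have hp2 : p ≠ 2 := fun e => Nat.not_even_iff_odd.mpr hr (even_iff_two_dvd.mpr (e ▸ hpr))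
  set π := QuotientGroup.mk' N
  obtain ⟨t₀, rfl⟩ := QuotientGroup.mk'_surjective N t
  set K := (centralizer ({π t₀} : Set (G ⧸ N))).comap π with hK
  obtain ⟨c₀, hc₀⟩ := QuotientGroup.mk'_surjective N (c : G ⧸ N)
  have hc₀K : c₀ ∈ K := by
    show π c₀ ∈ centralizer ({π t₀} : Set (G ⧸ N))
    rw [hc₀]
    exact c.2
  have hpd : p ∣ orderOf c₀ := hpr.trans ((Dvd.intro_left _ hkr.symm).trans
    (hc₀ ▸ orderOf_map_dvd π c₀))
  set x' := c₀ ^ (orderOf c₀ / p) with hx'
  have hox : orderOf x' = p := by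
    rw [hx', orderOf_pow, Nat.gcd_eq_right (Nat.div_dvd_of_dvd hpd),
      Nat.div_div_self hpd (orderOf_pos c₀).ne']
  have hx'K : x' ∈ K := pow_mem hc₀K _
  -- the cyclic group of prime order acts on the coset by conjugation
  let Ω := {y : G // π y = π t₀}
  letI act : MulAction (zpowers x') Ω :=
    { smul := fun c y => ⟨(c : G) * y * (c : G)⁻¹, by
        have hc : π (c : G) * π t₀ = π t₀ * π (c : G) :=
          mem_centralizer_singleton_iff.mp (show (c : G) ∈ K from (zpowers_le.mpr hx'K) c.2)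
        rw [map_mul, map_mul, y.2, map_inv, hc, mul_inv_cancel_right]⟩
      one_smul := fun y => Subtype.ext (show ((1 : zpowers x') : G) * y * ((1 : zpowers x') : G)⁻¹ = y by simp)
      mul_smul := fun c d y => Subtype.ext (by
        show ((c * d : zpowers x') : G) * y * ((c * d : zpowers x') : G)⁻¹ =
          (c : G) * ((d : G) * y * (d : G)⁻¹) * (c : G)⁻¹
        push_cast; group) }
  have hcard : Nat.card Ω = Nat.card N := by
    refine Nat.card_congr
      { toFun := fun y => ⟨t₀⁻¹ * y.1, QuotientGroup.eq.mp y.2.symm⟩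
        invFun := fun n => ⟨t₀ * n.1, by
          rw [map_mul, show π (n : G) = 1 from (QuotientGroup.eq_one_iff _).mpr n.2, mul_one]⟩
        left_inv := fun y => Subtype.ext (by simp)
        right_inv := fun n => Subtype.ext (by simp) }
  have hpg : IsPGroup p (zpowers x') := IsPGroup.of_card (n := 1) (by rw [Nat.card_zpowers, hox, pow_one])
  have hndvd : ¬ p ∣ Nat.card Ω := by
    rw [hcard]
    obtain ⟨k, hk⟩ := IsPGroup.iff_card.mp hN
    rw [hk]
    exact fun hd => hp2 ((Nat.prime_dvd_prime_iff_eq hp Nat.prime_two).mp (hp.dvd_of_dvd_pow hd))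
  obtain ⟨y, hy⟩ := hpg.nonempty_fixed_point_of_prime_not_dvd_card Ω hndvd
  have hfix : x' * y.1 * x'⁻¹ = y.1 := congrArg Subtype.val (hy ⟨x', mem_zpowers x'⟩)
  have hy1 : y.1 ≠ 1 := fun e => by
    have : π t₀ = 1 := by rw [← y.2, e, map_one]
    rw [this, orderOf_one] at ht
    omega
  have hy2 : ∃ j, y.1 ^ 2 ^ j = 1 := by
    have hy2' : π (y.1 ^ 2) = 1 := by rw [map_pow, y.2, ← ht, pow_orderOf_eq_one]
    obtain ⟨m, hm⟩ := hN ⟨_, (QuotientGroup.eq_one_iff _).mp hy2'⟩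
    exact ⟨m + 1, by rw [pow_succ', pow_mul]; exact congrArg Subtype.val hm⟩
  have h1 := eq_one_of_odd_two (h.isPGroup_centralizer hy2 hy1)
    (mem_centralizer_singleton_iff.mpr (mul_inv_eq_iff_eq_mul.mp hfix))
    (by rw [hox]; exact hp.odd_of_ne_two hp2)
  rw [h1, orderOf_one] at hox
  exact hp.one_lt.ne hox

variable {G : Type u} [Group G] [Finite G]

theorem rad_subgroupOf_normal (M : Subgroup G) : ((rad M).subgroupOf M).Normal :=
  (normal_subgroupOf_iff_le_normalizer (rad_le M)).mpr (le_normalizer_rad M)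

theorem isPGroup_rad_subgroupOf (M : Subgroup G) : IsPGroup 2 ↥((rad M).subgroupOf M) :=
  (isPGroup_rad M).comap_of_injective M.subtype M.subtype_injective

/-- The action of `M / rad M` on `vee M`. -/
noncomputable def veeAction (M : Subgroup G) [((rad M).subgroupOf M).Normal] :
    ↥M ⧸ (rad M).subgroupOf M →* MulAut ↥(vee M) :=
  QuotientGroup.lift _ ((vee M).normalizerMonoidHom.comp (inclusion (le_normalizer_vee M)))
    (by
      intro m hm
      rw [MonoidHom.mem_ker, MonoidHom.comp_apply]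
      rw [← MonoidHom.mem_ker, normalizerMonoidHom_ker]
      exact rad_le_centralizer_vee M hm)

theorem veeAction_mk (M : Subgroup G) [((rad M).subgroupOf M).Normal] (m : ↥M) (v : ↥(vee M)) :
    ((veeAction M (m : ↥M ⧸ (rad M).subgroupOf M) v : ↥(vee M)) : G) =
      (m : G) * v * (m : G)⁻¹ :=
  rfl

theorem qmod_veeAction (hG : IsCIT G) {M : Subgroup G} (hM : IsMaxLocal M)
    [((rad M).subgroupOf M).Normal] : QMod (veeAction M) where
  cit := (hG.subgroup M).quotient _ (isPGroup_rad_subgroupOf M)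
  inj := by
    refine (injective_iff_map_eq_one _).mpr fun x => ?_
    obtain ⟨m, rfl⟩ := QuotientGroup.mk_surjective x
    intro hm
    refine (QuotientGroup.eq_one_iff m).mpr ?_
    show (m : G) ∈ rad M
    rw [← hM.inf_centralizer_vee hG]
    refine ⟨m.2, mem_centralizer_iff.mpr fun v hv => ?_⟩
    have h1 : ((veeAction M (m : ↥M ⧸ (rad M).subgroupOf M) ⟨v, hv⟩ : ↥(vee M)) : G) = v := by
      rw [hm]; rfl
    rw [veeAction_mk] at h1
    exact (mul_inv_eq_iff_eq_mul.mp h1).symm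
  comm v w := Subtype.ext (vee_commute v.2 (vee_le_rad M w.2)).eq
  vsq v := Subtype.ext (show (v : G) * v = 1 by rw [← sq]; exact vee_sq v.2)
  nontrivial := (nontrivial_iff_ne_bot _).mpr hM.vee_ne_bot
  fpf x hx ho v hv := by
    obtain ⟨g, rfl⟩ := QuotientGroup.mk_surjective x
    obtain ⟨b, r, hr, hbr⟩ := Nat.exists_eq_two_pow_mul_odd (n := orderOf g) (orderOf_pos g).ne'
    have hgo : Odd (orderOf ((g ^ 2 ^ b : ↥M) : G)) := by
      rw [orderOf_coe, orderOf_pow, hbr, Nat.gcd_mul_right_left, Nat.mul_div_cancel_left _ (by positivity)]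
      exact hr
    have hg1 : ((g ^ 2 ^ b : ↥M) : G) ≠ 1 := fun e => by
      refine hx (orderOf_eq_one_iff.mp
        (Nat.Coprime.eq_one_of_dvd ((Nat.coprime_two_right.mpr ho).pow_right b)
          (orderOf_dvd_of_pow_eq_one ?_)))
      rw [← QuotientGroup.mk_pow, show g ^ 2 ^ b = 1 from Subtype.ext e]
      rfl
    have hfix : ∀ j : ℕ, veeAction M ((g : ↥M ⧸ (rad M).subgroupOf M) ^ j) v = v := fun j => by
      induction j with
      | zero => rw [pow_zero, map_one]; rfl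
      | succ j ih => rw [pow_succ, QMod.act_mul, hv, ih]
    have h1 := congrArg Subtype.val (hfix (2 ^ b))
    rw [← QuotientGroup.mk_pow, veeAction_mk] at h1
    exact Subtype.ext (hG.fpf (isPGroup_vee M) hg1 hgo v.2 (mul_inv_eq_iff_eq_mul.mp h1))
  two_core N hN hN2 := by
    set π := QuotientGroup.mk' ((rad M).subgroupOf M)
    have h2 : IsPGroup 2 ↥(N.comap π) :=
      hN2.comap_of_ker_isPGroup π (by rw [QuotientGroup.ker_mk']; exact isPGroup_rad_subgroupOf M)
    haveI : (N.comap π).Normal := hN.comap π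
    have hle : (N.comap π).map M.subtype ≤ rad M := by
      refine le_rad (map_subtype_le _) ?_ (h2.map _)
      rintro g hg
      refine Invol.mem_normalizer_of_map_le ?_
      rintro _ ⟨_, ⟨n, hn, rfl⟩, rfl⟩
      exact ⟨⟨g, hg⟩ * n * ⟨g, hg⟩⁻¹, ‹(N.comap π).Normal›.conj_mem _ hn ⟨g, hg⟩, rfl⟩
    refine (eq_bot_iff_forall _).mpr fun x hx => ?_
    obtain ⟨m, rfl⟩ := QuotientGroup.mk_surjective x
    exact (QuotientGroup.eq_one_iff m).mpr (hle ⟨m, hx, rfl⟩)

theorem nontrivial_veeQuotient {M : Subgroup G} (hM : IsMaxLocal M)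
    [((rad M).subgroupOf M).Normal] : Nontrivial (↥M ⧸ (rad M).subgroupOf M) := by
  obtain ⟨x, hxM, hx1, hxo⟩ := hM.1.2.exists_odd
  exact ⟨⟨QuotientGroup.mk' ((rad M).subgroupOf M) ⟨x, hxM⟩, 1, fun e => hx1 (eq_one_of_odd_two
    (isPGroup_rad M) (show x ∈ rad M from (QuotientGroup.eq_one_iff (⟨x, hxM⟩ : ↥M)).mp e) hxo)⟩⟩

theorem card_veeQuotient_lt {M : Subgroup G} (hM : IsMaxLocal M)
    [((rad M).subgroupOf M).Normal] : Nat.card (↥M ⧸ (rad M).subgroupOf M) < Nat.card G := by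
  have h1 := Subgroup.card_eq_card_quotient_mul_card_subgroup ((rad M).subgroupOf M)
  have h2 : Nat.card ↥M ≤ Nat.card G := Subgroup.card_le_card_group M
  have h3 : 1 < Nat.card ↥((rad M).subgroupOf M) := by
    rw [Nat.card_congr (subgroupOfEquivOfLe (rad_le M)).toEquiv]
    exact (Subgroup.one_lt_card_iff_ne_bot _).mpr hM.rad_ne_bot
  have h4 : 0 < Nat.card (↥M ⧸ (rad M).subgroupOf M) := Nat.card_pos
  nlinarith

theorem fix_map_vee (M : Subgroup G) [((rad M).subgroupOf M).Normal] (m : ↥M) :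
    (QMod.fix (veeAction M) (m : ↥M ⧸ (rad M).subgroupOf M)).map (vee M).subtype =
      vee M ⊓ centralizer ({(m : G)} : Set G) := by
  ext g
  constructor
  · rintro ⟨v, hv, rfl⟩
    refine ⟨v.2, mem_centralizer_singleton_iff.mpr ?_⟩
    have h := congrArg Subtype.val (QMod.mem_fix.mp hv)
    rw [veeAction_mk] at h
    exact (mul_inv_eq_iff_eq_mul.mp h).symm
  · rintro ⟨hg, hc⟩
    refine ⟨⟨g, hg⟩, QMod.mem_fix.mpr (Subtype.ext ?_), rfl⟩
    rw [veeAction_mk]
    exact mul_inv_eq_iff_eq_mul.mpr (mem_centralizer_singleton_iff.mp hc).symm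

theorem fixAll_map_vee (M : Subgroup G) [((rad M).subgroupOf M).Normal] {H : Subgroup G} (hH : H ≤ M) :
    (QMod.fixAll (veeAction M) ((H.subgroupOf M).map (QuotientGroup.mk' ((rad M).subgroupOf M)))).map
        (vee M).subtype = vee M ⊓ centralizer (H : Set G) := by
  ext g
  constructor
  · rintro ⟨v, hv, rfl⟩
    refine ⟨v.2, mem_centralizer_iff.mpr fun h hh => ?_⟩
    have h1 := congrArg Subtype.val (QMod.mem_fixAll.mp hv _ ⟨⟨h, hH hh⟩, hh, rfl⟩)
    erw [veeAction_mk] at h1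
    exact mul_inv_eq_iff_eq_mul.mp h1
  · rintro ⟨hg, hc⟩
    refine ⟨⟨g, hg⟩, QMod.mem_fixAll.mpr ?_, rfl⟩
    rintro _ ⟨m, hm, rfl⟩
    refine Subtype.ext ?_
    erw [veeAction_mk]
    exact mul_inv_eq_iff_eq_mul.mpr (mem_centralizer_iff.mp hc _ hm)

/-- Lifting an element that normalises the image of a cyclic group of odd prime order. -/
theorem exists_lift_normalizer {Y X : Type u} [Group Y] [Finite Y] [Group X] (π : Y →* X)
    (hπ : Function.Surjective π) (hker : IsPGroup 2 ↥π.ker) {p : ℕ} (hp : p.Prime) (hp2 : p ≠ 2)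
    {x : Y} (hx : orderOf x = p) {g : Y} (hg : π g ∈ normalizer (zpowers (π x) : Set X)) :
    ∃ g' : Y, π g' = π g ∧ g' ∈ normalizer (zpowers x : Set Y) := by
  haveI := Fact.mk hp
  haveI : Finite X := Finite.of_surjective π hπ
  obtain ⟨a, ha⟩ := hker.exists_card_eq
  have hπx : orderOf (π x) = p := by
    refine ((Nat.dvd_prime hp).mp (hx ▸ orderOf_map_dvd π x)).resolve_left fun h => ?_
    have hmem : x ∈ π.ker := MonoidHom.mem_ker.mpr (orderOf_eq_one_iff.mp h)
    have := eq_one_of_odd_two hker hmem (by rw [hx]; exact hp.odd_of_ne_two hp2)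
    rw [this, orderOf_one] at hx
    exact hp.one_lt.ne hx
  set H := (zpowers (π x)).comap π with hH
  have hxH : zpowers x ≤ H := zpowers_le.mpr (mem_zpowers (π x))
  have hcH : Nat.card H = Nat.card π.ker * p := by
    have h1 := H.card_mul_index
    rw [hH, Subgroup.index_comap_of_surjective _ hπ] at h1
    have h2 := (zpowers (π x)).card_mul_index
    rw [Nat.card_zpowers, hπx] at h2
    have h3 := π.ker.card_mul_index
    rw [Subgroup.index_ker, MonoidHom.range_eq_top.mpr hπ, card_top, ← h2, ← h1, ← mul_assoc] at h3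
    exact (Nat.eq_of_mul_eq_mul_right (Nat.pos_of_ne_zero Subgroup.index_ne_zero_of_finite) h3).symm
  have hidx : ∀ P : Subgroup H, Nat.card P = p → ¬ p ∣ P.index := by
    intro P hP hd
    have h1 := P.card_mul_index
    rw [hP, hcH, ha, mul_comm _ p] at h1
    rw [Nat.eq_of_mul_eq_mul_left hp.pos h1] at hd
    exact hp2 ((Nat.prime_dvd_prime_iff_eq hp Nat.prime_two).mp (hp.dvd_of_dvd_pow hd))
  have hconj : zpowers (g * x * g⁻¹) ≤ H := zpowers_le.mpr (by
    show π (g * x * g⁻¹) ∈ zpowers (π x)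
    rw [map_mul, map_mul, map_inv]
    exact (mem_normalizer_iff.mp hg _).mp (mem_zpowers _))
  have hP : Nat.card ((zpowers x).subgroupOf H) = p := by
    rw [Nat.card_congr (subgroupOfEquivOfLe hxH).toEquiv, Nat.card_zpowers, hx]
  have hQ : Nat.card ((zpowers (g * x * g⁻¹)).subgroupOf H) = p := by
    rw [Nat.card_congr (subgroupOfEquivOfLe hconj).toEquiv, Nat.card_zpowers,
      Invol.orderOf_conj_eq, hx]
  obtain ⟨c, hc⟩ := MulAction.exists_smul_eq H
    ((IsPGroup.of_card (n := 1) (by rw [hQ, pow_one])).toSylow (hidx _ hQ))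
    ((IsPGroup.of_card (n := 1) (by rw [hP, pow_one])).toSylow (hidx _ hP))
  have hmem : (c : Y) * (g * x * g⁻¹) * (c : Y)⁻¹ ∈ zpowers x := by
    have h1 : c * ⟨g * x * g⁻¹, hconj (mem_zpowers _)⟩ * c⁻¹ ∈ (zpowers x).subgroupOf H := by
      have h2 := congrArg (fun P : Sylow p H => (P : Subgroup H)) hc
      exact h2.le ⟨_, (mem_zpowers (g * x * g⁻¹) : _), rfl⟩
    exact h1
  obtain ⟨i, hi⟩ := mem_zpowers_iff.mp (show π (c : Y) ∈ zpowers (π x) from c.2)
  refine ⟨x ^ (-i) * c * g, by rw [map_mul, map_mul, map_zpow, ← hi, ← zpow_add, neg_add_cancel,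
    zpow_zero, one_mul], Invol.mem_normalizer_of_map_le ?_⟩
  rw [MonoidHom.map_zpowers]
  refine zpowers_le.mpr ?_
  show x ^ (-i) * c * g * x * (x ^ (-i) * c * g)⁻¹ ∈ zpowers x
  rw [show x ^ (-i) * c * g * x * (x ^ (-i) * c * g)⁻¹ =
    x ^ (-i) * ((c : Y) * (g * x * g⁻¹) * (c : Y)⁻¹) * x ^ i by group]
  exact mul_mem (mul_mem (zpow_mem (mem_zpowers x) _) hmem) (zpow_mem (mem_zpowers x) _)

/-- §3 (c) for a maximal local, given the TI counting theorem. -/
theorem ffShape_of (hG : IsCIT G) (hK : SmallerKnown.{u} (Nat.card G)) (hti : TIHolds.{u})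
    (hz : ZassenhausHolds.{u}) {M T A : Subgroup G} (hM : IsMaxLocal M)
    (hT : Cfsg.IsSylowTwoIn T M) (hA : A ≤ T) (hAR : ¬ A ≤ rad M) (hA2 : ∀ a ∈ A, a ^ 2 ∈ rad M)
    (hff : Nat.card ↥(vee M) ≤
      (A ⊓ rad M).relIndex A * Nat.card ↥(vee M ⊓ centralizer (A : Set G))) :
    ∃ q, FFShape M T q := by
  haveI : Fact (Nat.Prime 2) := ⟨Nat.prime_two⟩
  haveI := rad_subgroupOf_normal M
  haveI := nontrivial_veeQuotient hM
  have hX := qmod_veeAction hG hM
  have hRT : rad M ≤ T := rad_le_of_sylow hT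
  obtain ⟨hTM, hT2, hodd⟩ := hT
  have hAM : A ≤ M := hA.trans hTM
  set R := (rad M).subgroupOf M with hR
  set π := QuotientGroup.mk' R with hπ
  have hπs : Function.Surjective π := QuotientGroup.mk'_surjective R
  have hkerπ : π.ker = R := QuotientGroup.ker_mk' R
  set S' := (T.subgroupOf M).map π with hS'
  have hcS' : S'.comap π = T.subgroupOf M := by
    rw [hS', comap_map_eq, hkerπ, sup_eq_left]
    exact fun m hm => hRT hm
  have hS'idx : ¬ 2 ∣ S'.index := by
    rw [← Subgroup.index_comap_of_surjective S' hπs, hcS']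
    exact Nat.two_dvd_ne_zero.mpr (Nat.odd_iff.mp hodd)
  let S : Sylow 2 (↥M ⧸ R) := ((hT2.comap_of_injective M.subtype M.subtype_injective).map π).toSylow hS'idx
  set A' := (A.subgroupOf M).map π with hA'
  have hA'S : A' ≤ (S : Subgroup (↥M ⧸ R)) :=
    map_mono fun m hm => hA hm
  have hA'1 : A' ≠ ⊥ := by
    rw [hA', Ne, Subgroup.map_eq_bot_iff, hkerπ]
    exact fun h => hAR fun a ha => h (show (⟨a, hAM ha⟩ : ↥M) ∈ A.subgroupOf M from ha)
  have hA'2 : ∀ a ∈ A', a * a = 1 := by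
    rintro _ ⟨m, hm, rfl⟩
    rw [← map_mul, ← sq]
    exact (QuotientGroup.eq_one_iff _).mpr (hA2 _ hm)
  have hcA : Nat.card A' = (A ⊓ rad M).relIndex A := by
    let φ : ↥A →* ↥M ⧸ R := π.comp (inclusion hAM)
    have hr : φ.range = A' := by
      ext x
      constructor
      · rintro ⟨a, rfl⟩; exact ⟨inclusion hAM a, a.2, rfl⟩
      · rintro ⟨m, hm, rfl⟩; exact ⟨⟨m, hm⟩, rfl⟩
    have hk : φ.ker = (A ⊓ rad M).subgroupOf A := by
      ext a
      rw [MonoidHom.mem_ker, mem_subgroupOf]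
      exact ⟨fun h => ⟨a.2, (QuotientGroup.eq_one_iff (inclusion hAM a)).mp h⟩,
        fun h => (QuotientGroup.eq_one_iff (inclusion hAM a)).mpr h.2⟩
    rw [← hr, ← Subgroup.index_ker, hk]
    rfl
  obtain ⟨q, hq⟩ := hX.shape hK (card_veeQuotient_lt hM) hti hz S hA'S hA'1 hA'2 (by
    rw [hcA]
    refine hff.trans (Nat.mul_le_mul_left _ ?_)
    rw [← fixAll_map_vee M hAM, Core.card_map_subtype])
  have hfT : (QMod.fixAll (veeAction M) (S : Subgroup (↥M ⧸ R))).map (vee M).subtype =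
      vee M ⊓ centralizer (T : Set G) := fixAll_map_vee M hTM
  have hfu : ∀ u (hu : u ∈ T), u ∉ rad M →
      π ⟨u, hTM hu⟩ ∈ (S : Subgroup (↥M ⧸ R)) ∧ π ⟨u, hTM hu⟩ ≠ 1 := fun u hu hur =>
    ⟨⟨⟨u, hTM hu⟩, hu, rfl⟩, fun e => hur ((QuotientGroup.eq_one_iff (⟨u, hTM hu⟩ : ↥M)).mp e)⟩
  -- the torus
  obtain ⟨E, t₁, x₁, hEn, hEc, hEsup, hEcomm, ht1, htn, htinv, hx1, hxp, hxo, htx, hxE, v, hvS, hv1, hv3⟩ :=
    hq.torus
  set p := orderOf x₁ with hp
  have hp2 : p ≠ 2 := fun e => by rw [e] at hxo; exact absurd hxo (by decide)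
  have hker2 : IsPGroup 2 ↥π.ker := by rw [hkerπ]; exact isPGroup_rad_subgroupOf M
  obtain ⟨g₀, hg₀⟩ := hπs x₁
  obtain ⟨b, r, hr, hbr⟩ := Nat.exists_eq_two_pow_mul_odd (n := orderOf g₀) (orderOf_pos g₀).ne'
  -- an element of order `p` over a generator of the group of `x₁`
  have hpd : p ∣ orderOf g₀ := by rw [hp, ← hg₀]; exact orderOf_map_dvd π g₀
  set d := orderOf g₀ / p with hd
  set x := g₀ ^ d with hxdef
  have hox : orderOf x = p := by
    rw [hxdef, orderOf_pow, hd, Nat.gcd_eq_right (Nat.div_dvd_of_dvd hpd),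
      Nat.div_div_self hpd (orderOf_pos g₀).ne']
  have hxkey : ∀ y : ↥M, y ∈ zpowers x → π y = 1 → y = 1 := fun y hy hy1 =>
    eq_one_of_odd_two hker2 (MonoidHom.mem_ker.mpr hy1)
      ((hox.symm ▸ hxp.odd_of_ne_two hp2 : Odd (orderOf x)).of_dvd_nat (orderOf_dvd_of_mem_zpowers hy))
  have hxG : (x : G) ≠ 1 := fun e => by
    rw [show x = 1 from Subtype.ext e, orderOf_one] at hox
    exact hxp.ne_one hox.symm
  have hxoG : Odd (orderOf (x : G)) := by rw [orderOf_coe, hox]; exact hxp.odd_of_ne_two hp2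
  have hπx : π x = x₁ ^ d := by rw [hxdef, map_pow, hg₀]
  -- the torus
  set K := centralizer ({x} : Set ↥M) ⊓ E.comap π with hKdef
  have hKinj : ∀ k ∈ K, π k = 1 → k = 1 := by
    intro k hk hk1
    obtain ⟨j, hj⟩ := hker2 ⟨k, MonoidHom.mem_ker.mpr hk1⟩
    have hj' : (k : G) ^ 2 ^ j = 1 := by
      have := congrArg (fun y : ↥π.ker => ((y : ↥M) : G)) hj
      simpa using this
    obtain ⟨i, -, hi⟩ := (Nat.dvd_prime_pow Nat.prime_two).mp (orderOf_dvd_of_pow_eq_one hj')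
    exact Subtype.ext (hG.fpf (IsPGroup.of_card (n := i) (by rw [Nat.card_zpowers, hi])) hxG hxoG
      (mem_zpowers (k : G)) (congrArg Subtype.val (mem_centralizer_singleton_iff.mp hk.1)).symm)
  have hKsurj : ∀ e ∈ E, ∃ k ∈ K, π k = e := by
    intro e he
    obtain ⟨g, hg⟩ := hπs e
    have hc : π g * π x = π x * π g := by
      rw [hg, hπx]
      exact ((show Commute x₁ e from hxE e he).pow_left d).symm.eq
    obtain ⟨g', hg', hgn⟩ := exists_lift_normalizer π hπs hker2 hxp hp2 hox (g := g)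
      (Subgroup.centralizer_le_normalizer _ (mem_centralizer_iff.mpr fun y hy => by
        obtain ⟨i, rfl⟩ := mem_zpowers_iff.mp hy
        exact ((show Commute (π g) (π x) from hc).zpow_right i).symm.eq))
    refine ⟨g', Subgroup.mem_inf.mpr ⟨mem_centralizer_singleton_iff.mpr ?_,
      show π g' ∈ E by rw [hg', hg]; exact he⟩, hg'.trans hg⟩
    have h1 : g' * x * g'⁻¹ * x⁻¹ = 1 := by
      refine hxkey _ (mul_mem ((mem_normalizer_iff.mp hgn x).mp (mem_zpowers x))
        (inv_mem (mem_zpowers x))) ?_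
      rw [map_mul, map_mul, map_mul, map_inv, map_inv, hg', hc]
      group
    exact mul_inv_eq_iff_eq_mul.mp (mul_inv_eq_one.mp h1)
  let eK : ↥K ≃ ↥E := Equiv.ofBijective (fun k => ⟨π (k : ↥M), k.2.2⟩)
    ⟨fun a b e => by
      have h1 : π (a : ↥M) = π (b : ↥M) := congrArg Subtype.val e
      exact Subtype.ext (mul_inv_eq_one.mp (hKinj _ (mul_mem a.2 (inv_mem b.2))
        (by rw [map_mul, map_inv, h1, mul_inv_cancel]))),
    fun e => by obtain ⟨k, hk, hke⟩ := hKsurj e e.2; exact ⟨⟨k, hk⟩, Subtype.ext hke⟩⟩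
  have hKn : ∀ k ∈ K, (k : G) ∈ normalizer (T : Set G) := by
    intro k hk
    have h1 : k ∈ normalizer ((T.subgroupOf M : Subgroup ↥M) : Set ↥M) := by
      rw [← hcS', ← comap_normalizer_eq_of_surjective _ hπs]
      exact hEn hk.2
    refine Invol.mem_normalizer_of_map_le ?_
    rintro _ ⟨s, hs, rfl⟩
    exact (mem_normalizer_iff.mp h1 ⟨s, hTM hs⟩).mp hs
  -- the involution
  obtain ⟨g, hg⟩ := hπs t₁
  have htnx : π g ∈ normalizer (zpowers (π x) : Set (↥M ⧸ R)) := by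
    refine Invol.mem_normalizer_of_map_le ?_
    rw [MonoidHom.map_zpowers]
    refine zpowers_le.mpr ?_
    show π g * π x * (π g)⁻¹ ∈ zpowers (π x)
    rw [hg, hπx, ← conj_pow, htx, inv_pow]
    exact inv_mem (mem_zpowers _)
  obtain ⟨t, ht, htn'⟩ := exists_lift_normalizer π hπs hker2 hxp hp2 hox htnx
  rw [hg] at ht
  have htx' : t * x * t⁻¹ = x⁻¹ := by
    refine eq_inv_of_mul_eq_one_left (hxkey _ (mul_mem
      ((mem_normalizer_iff.mp htn' x).mp (mem_zpowers x)) (mem_zpowers x)) ?_)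
    rw [map_mul, map_mul, map_mul, map_inv, ht, hπx, ← conj_pow, htx, inv_pow, inv_mul_cancel]
  have htR : t * t ∈ π.ker := by
    rw [MonoidHom.mem_ker, map_mul, ht, Invol.inv_mul_self ht1]
  have ht2 : orderOf t = 2 := by
    refine Invol.orderOf_eq_two_of (fun e => ?_) (hKinj _ ⟨mem_centralizer_singleton_iff.mpr ?_, ?_⟩
      (MonoidHom.mem_ker.mp htR))
    · rw [← ht, e, map_one, orderOf_one] at ht1
      omega
    · calc t * t * x = t * (t * x * t⁻¹) * t⁻¹ * (t * t) := by group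
        _ = x * (t * t) := by rw [htx', show t * x⁻¹ * t⁻¹ = (t * x * t⁻¹)⁻¹ by group, htx', inv_inv]
    · show π (t * t) ∈ E
      rw [MonoidHom.mem_ker.mp htR]
      exact one_mem E
  refine ⟨q, hq.two_le, hq.pow_two, ?_, ?_, fun s hs => ?_, ?_, fun u hu hur => ?_, fun v hv s hs => ?_,
    ?_, K.map M.subtype, t, ?_, ?_, ?_, ?_, t.2, ?_, ?_, ?_, ?_⟩
  · exact hq.card_V
  · have h1 : R.relIndex (T.subgroupOf M) = q := by
      have h2 := hq.card_S
      rw [show (S : Subgroup (↥M ⧸ R)) = S' from rfl, hS'] at h2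
      rw [← h2, ← MonoidHom.domRestrict_range, ← Subgroup.index_ker, MonoidHom.ker_domRestrict, hkerπ]
      rfl
    rwa [hR, relIndex_subgroupOf hTM] at h1
  · have h1 := hq.sq (π ⟨s, hTM hs⟩) ⟨_, hs, rfl⟩
    rw [← map_mul, ← sq] at h1
    exact (QuotientGroup.eq_one_iff ((⟨s, hTM hs⟩ : ↥M) ^ 2)).mp h1
  · rw [← hfT, Core.card_map_subtype]; exact hq.card_fixAll
  · rw [← hfT, ← hq.fix_eq _ (hfu u hu hur).1 (hfu u hu hur).2]
    exact (fix_map_vee M ⟨u, hTM hu⟩).symm
  · rw [← hfT]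
    by_cases hs1 : π ⟨s, hTM hs⟩ = 1
    · have h1 : s⁻¹ * v * s = v := by
        have : v * s = s * v :=
          (vee_commute hv ((QuotientGroup.eq_one_iff (⟨s, hTM hs⟩ : ↥M)).mp hs1)).eq
        rw [mul_assoc, this, inv_mul_cancel_left]
      rw [h1, inv_mul_cancel]
      exact one_mem _
    · have hsS : π ⟨s, hTM hs⟩ ∈ (S : Subgroup (↥M ⧸ R)) := ⟨_, hs, rfl⟩
      have hsq := hq.sq _ hsS
      rw [← hq.fix_eq _ hsS hs1]
      refine ⟨hX.del (π ⟨s, hTM hs⟩)⁻¹ ⟨v, hv⟩, ?_, ?_⟩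
      · rw [inv_eq_of_mul_eq_one_right hsq]
        exact hX.range_del_le hsq ⟨⟨v, hv⟩, rfl⟩
      · rw [hX.del_apply, hX.comm]
        show v * ((veeAction M ((π ⟨s, hTM hs⟩)⁻¹) ⟨v, hv⟩ : ↥(vee M)) : G) = v⁻¹ * (s⁻¹ * v * s)
        rw [← map_inv]
        erw [veeAction_mk]
        rw [show v⁻¹ = v from inv_eq_of_mul_eq_one_right (by rw [← sq]; exact vee_sq hv)]
        simp
  · obtain ⟨F, iF, iFt, hF, he⟩ := hq.quot
    exact ⟨F, iF, iFt, hF, fun _ => he⟩
  · rintro _ ⟨k, hk, rfl⟩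
    exact ⟨k.2, hKn k hk⟩
  · rw [Core.card_map_subtype, Nat.card_congr eK]; exact hEc
  · refine ⟨⟨?_⟩⟩
    rintro ⟨_, a, ha, rfl⟩ ⟨_, b, hb, rfl⟩
    refine Subtype.ext ?_
    show ((a : ↥M) : G) * (b : G) = (b : G) * (a : G)
    refine congrArg Subtype.val (?_ : a * b = b * a)
    refine mul_inv_eq_one.mp (hKinj _ (mul_mem (mul_mem ha hb) (inv_mem (mul_mem hb ha))) ?_)
    rw [map_mul, map_inv, map_mul, map_mul, mul_inv_eq_one]
    exact congrArg Subtype.val (hEcomm.is_comm.comm ⟨π a, ha.2⟩ ⟨π b, hb.2⟩)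
  · rintro n ⟨hnM, hnT⟩
    have h1 : (⟨n, hnM⟩ : ↥M) ∈ (normalizer (S' : Set (↥M ⧸ R))).comap π := by
      rw [comap_normalizer_eq_of_surjective _ hπs, hcS', mem_normalizer_iff]
      intro y
      exact mem_normalizer_iff.mp hnT y
    rw [mem_comap, show (normalizer (S' : Set (↥M ⧸ R))) = (S : Subgroup (↥M ⧸ R)) ⊔ E from hEsup.symm,
      sup_comm, Core.mem_sup_of_le_normalizer hEn] at h1
    obtain ⟨e, he, s, hs, hes⟩ := h1
    obtain ⟨k, hk, rfl⟩ := hKsurj e he
    have hT' : (⟨n, hnM⟩ : ↥M) * k⁻¹ ∈ T.subgroupOf M := by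
      rw [← hcS']
      show π _ ∈ S'
      rw [map_mul, map_inv, ← hes]
      exact (mem_normalizer_iff.mp (hEn he) s).mp hs
    exact ⟨_, hT', k, ⟨k, hk, rfl⟩, by simp⟩
  · rw [orderOf_coe, ht2]
  · intro hn
    refine htn ?_
    have h1 : t ∈ (normalizer (S' : Set (↥M ⧸ R))).comap π := by
      rw [comap_normalizer_eq_of_surjective _ hπs, hcS', mem_normalizer_iff]
      intro y
      exact mem_normalizer_iff.mp hn y
    rw [mem_comap, ht] at h1
    exact h1
  · rintro _ ⟨k, hk, rfl⟩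
    refine congrArg Subtype.val (eq_inv_of_mul_eq_one_left (hKinj _ ⟨?_, ?_⟩ ?_) : t * k * t⁻¹ = k⁻¹)
    · refine mul_mem (mem_centralizer_singleton_iff.mpr ?_) hk.1
      have hkx : k * x = x * k := mem_centralizer_singleton_iff.mp hk.1
      have hix : t⁻¹ * x * t = x⁻¹ := by
        rw [inv_eq_of_mul_eq_one_right (show t * t = 1 from Invol.inv_mul_self ht2)] at htx' ⊢
        exact htx'
      calc t * k * t⁻¹ * x = t * k * (t⁻¹ * x * t) * t⁻¹ := by group
        _ = t * x⁻¹ * k * t⁻¹ := by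
          rw [hix, mul_assoc t k, ((show Commute k x from hkx).inv_right).eq, ← mul_assoc]
        _ = (t * x⁻¹ * t⁻¹) * (t * k * t⁻¹) := by group
        _ = x * (t * k * t⁻¹) := by rw [show t * x⁻¹ * t⁻¹ = (t * x * t⁻¹)⁻¹ by group, htx', inv_inv]
    · show π (t * k * t⁻¹ * k) ∈ E
      rw [map_mul, map_mul, map_mul, map_inv, ht, htinv _ hk.2, inv_mul_cancel]
      exact one_mem E
    · rw [map_mul, map_mul, map_mul, map_inv, ht, htinv _ hk.2, inv_mul_cancel]
  · obtain ⟨m, hm, rfl⟩ := hvS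
    refine ⟨(m : G), hm, fun h => hv1 ((QuotientGroup.eq_one_iff m).mpr h), ?_⟩
    refine (show (m * t) ^ 3 ∈ R from (QuotientGroup.eq_one_iff ((m * t) ^ 3)).mp ?_)
    show π ((m * t) ^ 3) = 1
    rw [map_pow, map_mul, ht, hv3]

end Cfsg.Lib.CIT

namespace Cfsg.Lib.CIT

open Subgroup

universe u

variable {G : Type u} [Group G] [Finite G]

/-- §3 (a) for a maximal local, given the TI counting theorem. -/
theorem sylowTI_quotient_of (hG : IsCIT G) (hK : SmallerKnown.{u} (Nat.card G)) (hti : TIHolds.{u})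
    {M : Subgroup G} (hM : IsMaxLocal M) [((rad M).subgroupOf M).Normal] :
    SylowTI (↥M ⧸ (rad M).subgroupOf M) :=
  haveI := nontrivial_veeQuotient hM
  (qmod_veeAction hG hM).sylowTI hK (card_veeQuotient_lt hM) hti

end Cfsg.Lib.CIT
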