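import Cfsg.Agent.Lib.CIT.Quot.Structure
import Cfsg.Agent.Lib.Linear.PSLSmall
import Cfsg.Agent.S0340
import Cfsg.Agent.S0494
import Cfsg.Agent.S0252

/-!
# A failure of factorization forces `PSL(2, q)` on a natural module

§3 (c) of `notes/cit_lead.md`, for an abstract group acting fixed point freely.
-/

set_option autoImplicit false
set_option linter.style.haveILetI false
set_option linter.unusedSectionVars false

namespace Cfsg.Lib.CIT

open Subgroup
open Cfsg.Lib

universe u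

/-- The second conclusion of the TI counting theorem, as a statement. -/
def ZassenhausHolds : Prop :=
  ∀ (Y : Type u) [Group Y] [Finite Y] [IsSimpleGroup Y] (H : Subgroup Y), TIData H →
    Cfsg.IsZassenhausGroup Y (Y ⧸ normalizer (H : Set Y))

variable {X V : Type u} [Group X] [Group V] [Finite X] [Finite V] {ρ : X →* MulAut V}

/-- The shape forced by a failure of factorization, in the quotient. -/
structure QShape (ρ : X →* MulAut V) (S : Subgroup X) (q : ℕ) : Prop where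
  two_le : 2 ≤ q
  pow_two : ∃ n : ℕ, q = 2 ^ n
  card_V : Nat.card V = q ^ 2
  card_S : Nat.card S = q
  sq : ∀ s ∈ S, s * s = 1
  card_fixAll : Nat.card (QMod.fixAll ρ S) = q
  fix_eq : ∀ u ∈ S, u ≠ 1 → QMod.fix ρ u = QMod.fixAll ρ S
  quot : ∃ (F : Type) (_ : Field F) (_ : Fintype F), Fintype.card F = q ∧
    Nonempty (X ≃* Matrix.ProjectiveSpecialLinearGroup (Fin 2) F)
  torus : ∃ (E : Subgroup X) (t x : X), E ≤ normalizer (S : Set X) ∧ Nat.card E + 1 = q ∧
    S ⊔ E = normalizer (S : Set X) ∧ IsMulCommutative E ∧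
    orderOf t = 2 ∧ t ∉ normalizer (S : Set X) ∧ (∀ e ∈ E, t * e * t⁻¹ = e⁻¹) ∧
    x ≠ 1 ∧ (orderOf x).Prime ∧ Odd (orderOf x) ∧ t * x * t⁻¹ = x⁻¹ ∧ (∀ e ∈ E, x * e = e * x) ∧
    ∃ u ∈ S, u ≠ 1 ∧ (u * t) ^ 3 = 1

theorem TIShape.odd {P : Sylow 2 X} {E : Subgroup X} {t : X} (h : TIShape (P : Subgroup X) E t) :
    ∀ e ∈ E, Odd (orderOf e) := by
  haveI : Fact (Nat.Prime 2) := ⟨Nat.prime_two⟩
  intro e he
  by_contra hev
  rw [Nat.not_odd_iff_even, even_iff_two_dvd] at hev
  have hoe : orderOf (e ^ (orderOf e / 2)) = 2 := by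
    rw [orderOf_pow, Nat.gcd_eq_right (Nat.div_dvd_of_dvd hev),
      Nat.div_div_self hev (orderOf_pos e).ne']
  have hle : zpowers (e ^ (orderOf e / 2)) ≤ normalizer ((P : Subgroup X) : Set X) :=
    (zpowers_le.mpr (pow_mem he _)).trans h.le_normalizer
  have hp2 : IsPGroup 2 ↥((P : Subgroup X) ⊔ zpowers (e ^ (orderOf e / 2))) :=
    IsPGroup.to_sup_of_normal_left' P.2 (IsPGroup.of_card (n := 1)
      (by rw [Nat.card_zpowers, hoe, pow_one])) hle
  have hmem : e ^ (orderOf e / 2) ∈ (P : Subgroup X) ⊓ E :=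
    ⟨(P.3 hp2 le_sup_left) ▸ mem_sup_right (mem_zpowers _), pow_mem he _⟩
  rw [h.inf_eq, Subgroup.mem_bot] at hmem
  rw [hmem, orderOf_one] at hoe
  omega

/-- A subgroup of exponent two of `S` is covered by the involutions of `S` and the identity. -/
theorem card_le_involutions {S A : Subgroup X} (hA : A ≤ S) (hA2 : ∀ a ∈ A, a * a = 1) :
    Nat.card A ≤ Nat.card {a : X // a ∈ S ∧ orderOf a = 2} + 1 := by
  classical
  rw [← Finite.card_option]
  refine Nat.card_le_card_of_injective (fun a : A => if h : (a : X) = 1 then none else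
    some ⟨a, hA a.2, Invol.orderOf_eq_two_of h (hA2 a a.2)⟩) fun a b e => ?_
  dsimp only at e
  by_cases ha : (a : X) = 1 <;> by_cases hb : (b : X) = 1
  · exact Subtype.ext (ha.trans hb.symm)
  · simp [ha, hb] at e
  · simp [ha, hb] at e
  · rw [dif_neg ha, dif_neg hb, Option.some_inj] at e
    exact Subtype.ext (Subtype.mk.inj e)

theorem perm_three_field : ∃ (F : Type) (_ : Field F) (_ : Fintype F), Fintype.card F = 2 ∧
    Nonempty (Equiv.Perm (Fin 3) ≃* Matrix.ProjectiveSpecialLinearGroup (Fin 2) F) := by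
  haveI : Fact (Nat.Prime 2) := ⟨Nat.prime_two⟩
  refine ⟨ZMod 2, inferInstance, inferInstance, ZMod.card 2, ?_⟩
  obtain ⟨e⟩ := Linear.Two.sl_equiv_perm (F := ZMod 2) (ZMod.card 2)
  have hc : center (Matrix.SpecialLinearGroup (Fin 2) (ZMod 2)) = ⊥ := by
    rw [← Subgroup.card_eq_one, Cfsg.Lib.Linear.card_center_SL, Fintype.card_fin, ZMod.card]
    rfl
  exact ⟨e.symm.trans ((QuotientGroup.quotientBot).symm.trans (QuotientGroup.quotientMulEquivOfEq hc.symm))⟩

/-- The only arithmetic needed to identify the field. -/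
theorem eq_four_of_double {q f k : ℕ} (hq : 2 ≤ q) (hk : 1 ≤ k)
    (hf : f = q * k + 1 ∨ f + 1 = q * k) (h : f * (f ^ 2 - 1) = 2 * (q * (q ^ 2 - 1))) :
    q = 4 ∧ f = 5 := by
  have hq2 : 1 ≤ q ^ 2 := Nat.one_le_pow _ _ (by omega)
  have hqk : 2 ≤ q * k := le_trans hq (Nat.le_mul_of_pos_right q hk)
  have hf2 : 1 ≤ f ^ 2 := Nat.one_le_pow _ _ (by omega)
  have hZ : (f : ℤ) * ((f : ℤ) ^ 2 - 1) = 2 * ((q : ℤ) * ((q : ℤ) ^ 2 - 1)) := by
    have := congrArg (fun m : ℕ => (m : ℤ)) h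
    push_cast [Nat.cast_sub hf2, Nat.cast_sub hq2] at this
    linarith
  have hq' : (2 : ℤ) ≤ q := by exact_mod_cast hq
  have hk' : (1 : ℤ) ≤ k := by exact_mod_cast hk
  rcases hf with hf | hf
  · have hf' : (f : ℤ) = q * k + 1 := by exact_mod_cast hf
    rw [hf'] at hZ
    have h1 : (k : ℤ) * (q * k + 1) * (q * k + 2) = 2 * ((q : ℤ) ^ 2 - 1) :=
      mul_left_cancel₀ (show (q : ℤ) ≠ 0 by omega) (by linear_combination hZ)
    rcases Nat.lt_or_ge k 2 with hk2 | hk2
    · obtain rfl : k = 1 := by omega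
      push_cast at h1 hf'
      have h2 : ((q : ℤ) - 4) * (q + 1) = 0 := by linear_combination -h1
      rcases mul_eq_zero.mp h2 with h3 | h3
      · exact ⟨by omega, by omega⟩
      · omega
    · have hk2' : (2 : ℤ) ≤ k := by exact_mod_cast hk2
      nlinarith [mul_le_mul_of_nonneg_left hk2' (show (0 : ℤ) ≤ q by omega),
        mul_le_mul hk2' (show (2 * (q : ℤ) + 1) ≤ q * k + 1 by nlinarith) (by omega) (by omega)]
  · have hf' : (f : ℤ) = q * k - 1 := by
      have : (f : ℤ) + 1 = q * k := by exact_mod_cast hf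
      linarith
    rw [hf'] at hZ
    have h1 : (k : ℤ) * (q * k - 1) * (q * k - 2) = 2 * ((q : ℤ) ^ 2 - 1) :=
      mul_left_cancel₀ (show (q : ℤ) ≠ 0 by omega) (by linear_combination hZ)
    rcases Nat.lt_or_ge k 2 with hk2 | hk2
    · obtain rfl : k = 1 := by omega
      push_cast at h1
      nlinarith
    · have hk2' : (2 : ℤ) ≤ k := by exact_mod_cast hk2
      have h3 : 2 * (q : ℤ) ≤ q * k := by nlinarith
      have h4 : 2 * ((2 * (q : ℤ) - 1) * (2 * q - 2)) ≤ k * ((q * k - 1) * (q * k - 2)) :=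
        mul_le_mul hk2' (mul_le_mul (by linarith) (by linarith) (by linarith) (by linarith))
          (by nlinarith) (by linarith)
      nlinarith

/-- A simple Zassenhaus group of order `q (q² − 1)`, `q` a power of two, is `PSL(2, q)`. -/
theorem psl_of_zassenhaus {Ω : Type u} [MulAction X Ω] [Finite Ω] [IsSimpleGroup X]
    (hZ : Cfsg.IsZassenhausGroup X Ω) {n : ℕ} (hn : 2 ≤ n)
    (hcard : Nat.card X = 2 ^ n * ((2 ^ n) ^ 2 - 1)) :
    ∃ (F : Type) (_ : Field F) (_ : Fintype F), Fintype.card F = 2 ^ n ∧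
      Nonempty (X ≃* Matrix.ProjectiveSpecialLinearGroup (Fin 2) F) := by
  haveI : Fact (Nat.Prime 2) := ⟨Nat.prime_two⟩
  set q := 2 ^ n with hq
  have hq4 : 4 ≤ q := by
    calc (4 : ℕ) = 2 ^ 2 := rfl
      _ ≤ q := Nat.pow_le_pow_right two_pos hn
  have hqe : Even q := by rw [hq, Nat.even_pow]; exact ⟨even_two, by omega⟩
  have hsq : Odd (q ^ 2 - 1) := by
    refine Nat.Even.sub_odd (Nat.one_le_pow _ _ (by omega)) (hqe.pow_of_ne_zero two_ne_zero) odd_one
  rcases Cfsg.Agent.S0340.result hZ with ⟨F, _, _, ⟨e⟩⟩ | ⟨-, m, hm, hS⟩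
  · have hc := Linear.Two.card_PSL_two (F := F)
    rw [← Nat.card_congr e.toEquiv, hcard] at hc
    set f := Fintype.card F with hf
    have hf1 : 2 ≤ f := Fintype.one_lt_card
    rcases Nat.even_or_odd f with hfe | hfo
    · have hg : Nat.gcd 2 (f - 1) = 1 :=
        (Nat.coprime_two_left.mpr (Nat.Even.sub_odd (by omega) hfe odd_one))
      rw [hg, one_mul] at hc
      refine ⟨F, inferInstance, inferInstance, ?_, ⟨e⟩⟩
      have hmono : ∀ a b : ℕ, 1 ≤ a → a < b → a * (a ^ 2 - 1) < b * (b ^ 2 - 1) := by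
        intro a b ha hab
        have h1 : 1 ≤ a ^ 2 := Nat.one_le_pow _ _ (by omega)
        have h2 : a ^ 2 < b ^ 2 := Nat.pow_lt_pow_left hab two_ne_zero
        exact Nat.mul_lt_mul_of_lt_of_lt hab (by omega)
      rcases lt_trichotomy f q with h | h | h
      · exact absurd hc (Nat.ne_of_gt (hmono f q (by omega) h))
      · exact h
      · exact absurd hc (Nat.ne_of_lt (hmono q f (by omega) h))
    · have hf3 : 3 ≤ f := by
        rcases hfo with ⟨j, hj⟩; omega
      obtain ⟨j, hj⟩ := hfo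
      have hg : Nat.gcd 2 (f - 1) = 2 := Nat.gcd_eq_left ⟨j, by omega⟩
      rw [hg] at hc
      have hfac : f ^ 2 - 1 = (f + 1) * (f - 1) := by simpa using Nat.sq_sub_sq f 1
      have hd : 2 ^ (n + 1) ∣ f * ((f + 1) * (f - 1)) :=
        ⟨q ^ 2 - 1, by rw [← hfac, ← hc, hq, pow_succ]; ring⟩
      have hd2 : 2 ^ (n + 1) ∣ (f + 1) * (f - 1) :=
        ((Nat.coprime_two_left.mpr ⟨j, hj⟩).pow_left (n + 1)).dvd_of_dvd_mul_left hd
      rw [show f + 1 = 2 * (j + 1) by omega, show f - 1 = 2 * j by omega,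
        show 2 * (j + 1) * (2 * j) = 2 * (2 * ((j + 1) * j)) by ring, pow_succ'] at hd2
      have hd3 : q ∣ 2 * ((j + 1) * j) := Nat.dvd_of_mul_dvd_mul_left two_pos hd2
      obtain ⟨k, hk, hk1⟩ : ∃ k, (f = q * k + 1 ∨ f + 1 = q * k) ∧ 1 ≤ k := by
        rcases Nat.even_or_odd j with hje | hjo
        · have h1 : q ∣ 2 * j * (j + 1) := by rwa [mul_comm (j + 1), ← mul_assoc] at hd3
          obtain ⟨k, hk⟩ : q ∣ 2 * j :=
            ((Nat.coprime_two_left.mpr hje.add_one).pow_left n).dvd_of_dvd_mul_right h1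
          exact ⟨k, Or.inl (by omega), Nat.pos_of_mul_pos_left (a := q) (by omega)⟩
        · have h1 : q ∣ 2 * (j + 1) * j := by rwa [← mul_assoc] at hd3
          obtain ⟨k, hk⟩ : q ∣ 2 * (j + 1) :=
            ((Nat.coprime_two_left.mpr hjo).pow_left n).dvd_of_dvd_mul_right h1
          exact ⟨k, Or.inr (by omega), Nat.pos_of_mul_pos_left (a := q) (by omega)⟩
      obtain ⟨h4, h5⟩ := eq_four_of_double (by omega) hk1 hk hc.symm
      have h60 : Nat.card X = 60 := by rw [hcard, h4]; norm_num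
      obtain ⟨e5⟩ := Cfsg.Agent.S0494.result h60
      haveI : Fintype (GaloisField 2 2) := Fintype.ofFinite _
      have hF4 : Fintype.card (GaloisField 2 2) = 4 := by
        rw [← Nat.card_eq_fintype_card, GaloisField.card 2 2 two_ne_zero]; norm_num
      obtain ⟨e4⟩ := Cfsg.Agent.S0252.result hF4
      exact ⟨GaloisField 2 2, inferInstance, inferInstance, hF4.trans h4.symm, ⟨e5.trans e4.symm⟩⟩
  · exfalso
    set a := 2 ^ (2 * m + 1) with ha
    have ha8 : 8 ≤ a := by
      calc (8 : ℕ) = 2 ^ 3 := rfl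
        _ ≤ a := Nat.pow_le_pow_right two_pos (by omega)
    have hae : Even a := by rw [ha, Nat.even_pow]; exact ⟨even_two, by omega⟩
    rw [hcard, mul_assoc] at hS
    have ho : Odd ((a ^ 2 + 1) * (a - 1)) :=
      ((hae.pow_of_ne_zero two_ne_zero).add_one).mul (Nat.Even.sub_odd (by omega) hae odd_one)
    have hpq : ∀ {i : ℕ} {r : ℕ}, Odd r → (2 ^ i).Coprime r := fun hr =>
      (Nat.coprime_two_left.mpr hr).pow_left _
    have ha2 : a ^ 2 = 2 ^ ((2 * m + 1) * 2) := by rw [ha, pow_mul]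
    have h1 : q ∣ a ^ 2 := (hpq ho).dvd_of_dvd_mul_right (hS ▸ dvd_mul_right q _)
    have h2 : a ^ 2 ∣ q := by
      have := dvd_mul_right (a ^ 2) ((a ^ 2 + 1) * (a - 1))
      rw [← hS] at this
      rw [ha2] at this ⊢
      exact (hpq hsq).dvd_of_dvd_mul_right this
    have hqa : q = a ^ 2 := Nat.dvd_antisymm h1 h2
    rw [hqa] at hS
    have h3 := Nat.eq_of_mul_eq_mul_left (by positivity) hS
    have hfac : (a ^ 2) ^ 2 - 1 = (a ^ 2 + 1) * (a ^ 2 - 1) := by simpa using Nat.sq_sub_sq (a ^ 2) 1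
    rw [hfac] at h3
    have h4 := Nat.eq_of_mul_eq_mul_left (by positivity) h3
    have h5 : a < a ^ 2 := by nlinarith
    omega

/-- The case of a single involution in a Sylow 2-subgroup. -/
theorem QMod.shape_of_unique (hX : QMod ρ) (S : Sylow 2 X) {u : X} (huS : u ∈ (S : Subgroup X))
    (hu : orderOf u = 2) (hV : Nat.card V = 4) : QShape ρ (S : Subgroup X) 2 := by
  haveI : Fact (Nat.Prime 2) := ⟨Nat.prime_two⟩
  classical
  obtain ⟨x, hx1, hxo, hinv⟩ := hX.exists_inverted hu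
  let f : MulAut V →* Equiv.Perm {v : V // v ≠ 1} := MonoidHom.mk'
    (fun σ => σ.toEquiv.subtypeEquiv fun v => (σ.map_ne_one_iff).symm)
    fun a b => Equiv.ext fun v => Subtype.ext rfl
  have hf : Function.Injective f := by
    intro a b h
    refine MulEquiv.ext fun v => ?_
    rcases eq_or_ne v 1 with rfl | hv
    · rw [map_one, map_one]
    · exact congrArg Subtype.val (congrArg (fun σ : Equiv.Perm {v : V // v ≠ 1} => σ ⟨v, hv⟩) h)
  have h3 : Nat.card {v : V // v ≠ 1} = 3 := by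
    haveI := Fintype.ofFinite V
    rw [Nat.card_eq_fintype_card, Fintype.card_subtype_compl, Fintype.card_subtype_eq,
      ← Nat.card_eq_fintype_card, hV]
  let e3 : {v : V // v ≠ 1} ≃ Fin 3 := (Finite.equivFin _).trans (finCongr h3)
  let g : X →* Equiv.Perm (Fin 3) := (e3.permCongrHom.toMonoidHom.comp f).comp ρ
  have hg : Function.Injective g := (e3.permCongrHom.injective.comp hf).comp hX.inj
  have hd6 : Nat.card X ∣ 6 := by
    have h := Subgroup.card_dvd_of_injective g hg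
    rwa [Nat.card_perm, Nat.card_fin] at h
  have hox : orderOf x = 3 := by
    have h1 : orderOf x ∣ 6 := (orderOf_dvd_natCard x).trans hd6
    have h2 : orderOf x ≠ 1 := fun h => hx1 (orderOf_eq_one_iff.mp h)
    have h4 : orderOf x ∣ 3 :=
      (Nat.coprime_two_right.mpr hxo).dvd_of_dvd_mul_left (show orderOf x ∣ 2 * 3 from h1)
    exact ((Nat.dvd_prime Nat.prime_three).mp h4).resolve_left h2
  have h6 : Nat.card X = 6 := Nat.dvd_antisymm hd6 (show 2 * 3 ∣ Nat.card X from
    Nat.Coprime.mul_dvd_of_dvd_of_dvd (by norm_num) (hu ▸ orderOf_dvd_natCard u)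
      (hox ▸ orderOf_dvd_natCard x))
  have hS2 : Nat.card (S : Subgroup X) = 2 := by
    obtain ⟨k, hk⟩ := IsPGroup.iff_card.mp S.2
    have h1 : 2 ^ k ∣ 6 := hk ▸ h6 ▸ Subgroup.card_subgroup_dvd_card _
    rcases k with _ | _ | k
    · have h2 := Subgroup.orderOf_dvd_natCard _ huS
      rw [hk, hu] at h2
      norm_num at h2
    · rw [hk]; rfl
    · have : 4 ∣ 6 := (show 4 ∣ 2 ^ (k + 2) from ⟨2 ^ k, by rw [pow_add]; ring⟩).trans h1
      norm_num at this
  have hSu : ∀ s ∈ (S : Subgroup X), s = 1 ∨ s = u := by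
    have hz : zpowers u = (S : Subgroup X) := Subgroup.eq_of_le_of_card_ge (zpowers_le.mpr huS)
      (by rw [hS2, Nat.card_zpowers, hu])
    intro s hs
    rw [← hz, mem_zpowers_iff] at hs
    obtain ⟨i, rfl⟩ := hs
    rcases Int.even_or_odd i with ⟨j, hj⟩ | ⟨j, hj⟩
    · left; rw [hj, ← two_mul, zpow_mul]; norm_cast; rw [sq, Invol.inv_mul_self hu, one_zpow]
    · right; rw [hj, zpow_add, zpow_mul, zpow_one]; norm_cast; rw [sq, Invol.inv_mul_self hu, one_zpow, one_mul]
  have hN : normalizer ((S : Subgroup X) : Set X) = (S : Subgroup X) := by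
    refine (le_normalizer.antisymm ?_).symm
    by_contra hlt
    have h1 := Core.card_mul_relIndex (le_normalizer (H := (S : Subgroup X)))
    have h2 : Nat.card (normalizer ((S : Subgroup X) : Set X)) ∣ 6 :=
      h6 ▸ Subgroup.card_subgroup_dvd_card _
    rw [← h1, hS2] at h2
    have h3' : (S : Subgroup X).relIndex (normalizer ((S : Subgroup X) : Set X)) ∣ 3 :=
      Nat.dvd_of_mul_dvd_mul_left two_pos (show 2 * _ ∣ 2 * 3 from h2)
    rcases (Nat.dvd_prime Nat.prime_three).mp h3' with h4 | h4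
    · exact hlt (Subgroup.relIndex_eq_one.mp h4)
    · have htop : normalizer ((S : Subgroup X) : Set X) = ⊤ :=
        Subgroup.eq_top_of_card_eq _ (by rw [← h1, hS2, h4, h6])
      have hb := hX.two_core _ (normalizer_eq_top_iff.mp htop) S.2
      rw [hb] at huS
      exact Invol.ne_one hu (mem_bot.mp huS)
  have hux : u * x * u⁻¹ = x⁻¹ := hinv
  have hxx : x ^ 3 = 1 := hox ▸ pow_orderOf_eq_one x
  set t := x * u * x⁻¹ with ht
  have htt : t ∉ (S : Subgroup X) := by
    intro h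
    rcases hSu _ h with h | h
    · exact Invol.ne_one hu (by rw [ht, conj_eq_one_iff] at h; exact h)
    · have hc : u * x * u⁻¹ = x := by
        rw [mul_inv_eq_iff_eq_mul] at h ⊢
        exact h.symm
      rw [hux] at hc
      have : x ^ 2 = 1 := by rw [sq]; nth_rw 1 [← hc]; rw [inv_mul_cancel]
      have h2 := orderOf_dvd_of_pow_eq_one this
      rw [hox] at h2
      norm_num at h2
  have hfixS : QMod.fixAll ρ (S : Subgroup X) = QMod.fix ρ u := le_antisymm (QMod.fixAll_le_fix huS)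
    fun v hv => QMod.mem_fixAll.mpr fun k hk => by
      rcases hSu k hk with rfl | rfl
      · exact QMod.act_one v
      · exact QMod.mem_fix.mp hv
  obtain ⟨e⟩ : Nonempty (X ≃* Equiv.Perm (Fin 3)) := ⟨MulEquiv.ofBijective g
    ((Nat.bijective_iff_injective_and_card g).2 ⟨hg, by rw [h6, Nat.card_perm, Nat.card_fin]; rfl⟩)⟩
  obtain ⟨F, iF, iFt, hF, ⟨e'⟩⟩ := perm_three_field
  refine ⟨le_rfl, ⟨1, rfl⟩, by rw [hV]; rfl, hS2, fun s hs => ?_, ?_, fun w hw hw1 => ?_,
    ⟨F, iF, iFt, hF, ⟨e.trans e'⟩⟩, ⊥, t, x, bot_le, by rw [Subgroup.card_bot], by rw [sup_bot_eq, hN],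
    inferInstance, by rw [ht, Invol.orderOf_conj_eq, hu], by rw [hN]; exact htt, ?_, hx1,
    by rw [hox]; exact Nat.prime_three, hxo, ?_, ?_, u, huS, Invol.ne_one hu, ?_⟩
  · rcases hSu s hs with rfl | rfl
    · exact mul_one 1
    · exact Invol.inv_mul_self hu
  · rw [hfixS]
    refine Nat.pow_left_injective two_ne_zero ?_
    dsimp only
    rw [hX.card_fix_sq hu, hV]
  · rw [hfixS, (hSu w hw).resolve_left hw1]
  · intro e he
    rw [mem_bot.mp he, mul_one, mul_inv_cancel, inv_one]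
  · rw [ht]
    calc x * u * x⁻¹ * x * (x * u * x⁻¹)⁻¹ = x * (u * x * u⁻¹) * x⁻¹ := by group
      _ = x⁻¹ := by rw [hux]; group
  · intro e he
    rw [mem_bot.mp he, mul_one, one_mul]
  · rw [ht]
    calc (u * (x * u * x⁻¹)) ^ 3 = ((u * x * u⁻¹) * (u * u) * x⁻¹) ^ 3 := by group
      _ = ((x ^ 3)⁻¹) ^ 2 := by rw [hux, Invol.inv_mul_self hu, mul_one]; group
      _ = 1 := by rw [hxx, inv_one, one_pow]

/-- The case of a simple group with TI Sylow 2-subgroups. -/
theorem QMod.shape_of_simple (hX : QMod ρ) [IsSimpleGroup X] (hna : ¬ IsMulCommutative X)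
    (hO : oddCore X = ⊥) (hTI : SylowTI X) (S : Sylow 2 X) (hti : TIHolds.{u})
    (hz : ZassenhausHolds.{u}) {A : Subgroup X} (hA : A ≤ (S : Subgroup X))
    (hA2 : ∀ a ∈ A, a * a = 1) {u : X} (huA : u ∈ A) (hu : orderOf u = 2)
    (hr : Nat.card (QMod.fix ρ u) ≤ Nat.card A) :
    ∃ q, QShape ρ (S : Subgroup X) q := by
  haveI : Fact (Nat.Prime 2) := ⟨Nat.prime_two⟩
  have hD := hX.tiData hna hO hTI S
  obtain ⟨E, t, hE⟩ := hti X S hD
  have huS := hA huA
  set q := Nat.card E + 1 with hq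
  set W := QMod.fixAll ρ (S : Subgroup X) with hW
  have hodd := hE.odd
  have hnorm : ∀ e ∈ E, ∀ v ∈ W, ρ e v ∈ W := by
    intro e he v hv
    refine QMod.mem_fixAll.mpr fun k hk => ?_
    have hk' := (mem_normalizer_iff''.mp (hE.le_normalizer he) k).mp hk
    rw [← QMod.act_mul, show k * e = e * (e⁻¹ * k * e) by group, QMod.act_mul,
      QMod.mem_fixAll.mp hv _ hk']
  obtain ⟨w, hwW, hw1⟩ : ∃ w ∈ W, w ≠ 1 := by
    haveI := hX.nontrivial
    letI : MulAction (S : Subgroup X) V := MulAction.compHom V (ρ.comp (S : Subgroup X).subtype)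
    obtain ⟨k, hk⟩ := IsPGroup.iff_card.mp hX.isPGroup
    have hk0 : k ≠ 0 := fun h0 => by
      have := Finite.one_lt_card (α := V)
      rw [hk, h0] at this; simp at this
    have hone : (1 : V) ∈ MulAction.fixedPoints (S : Subgroup X) V := fun s => map_one (ρ (s : X))
    obtain ⟨w, hw, hw1⟩ := S.2.exists_fixed_point_of_prime_dvd_card_of_fixed_point V
      (hk ▸ dvd_pow_self 2 hk0) hone
    exact ⟨w, QMod.mem_fixAll.mpr fun s hs => hw ⟨s, hs⟩, Ne.symm hw1⟩
  have hqW : q ≤ Nat.card W := by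
    rw [hq, ← Finite.card_option]
    refine Nat.card_le_card_of_injective (fun o : Option E =>
      o.elim (1 : W) fun e => ⟨ρ (e : X) w, hnorm _ e.2 _ hwW⟩) ?_
    have hne : ∀ e : X, ρ e w ≠ 1 := fun e h => hw1 ((ρ e).injective (h.trans (map_one _).symm))
    rintro (_ | a) (_ | b) e
    · rfl
    · exact absurd (congrArg Subtype.val e).symm (hne b)
    · exact absurd (congrArg Subtype.val e) (hne a)
    · have e' : ρ (a : X) w = ρ (b : X) w := congrArg Subtype.val e
      by_contra hab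
      refine hw1 (hX.fpf ((b : X)⁻¹ * a) (fun h => hab (congrArg some (Subtype.ext
        (inv_mul_eq_one.mp h).symm))) (hodd _ (mul_mem (inv_mem b.2) a.2)) w ?_)
      rw [QMod.act_mul, e', ← QMod.act_mul, inv_mul_cancel, QMod.act_one]
  have hAq : Nat.card A ≤ q := by rw [hq, hE.card_eq]; exact card_le_involutions hA hA2
  have hWu : Nat.card W ≤ Nat.card (QMod.fix ρ u) :=
    Subgroup.card_le_of_le (QMod.fixAll_le_fix huS)
  have hrq : Nat.card (QMod.fix ρ u) = q := by omega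
  have hWq : Nat.card W = q := by omega
  have hfix : ∀ v ∈ (S : Subgroup X), orderOf v = 2 → QMod.fix ρ v = W := fun v hv hv2 =>
    (Subgroup.eq_of_le_of_card_ge (QMod.fixAll_le_fix hv) (le_of_eq (by
      rw [hWq, ← hrq]
      exact Nat.pow_left_injective two_ne_zero
        ((hX.card_fix_sq hv2).trans (hX.card_fix_sq hu).symm)))).symm
  have hsq : ∀ s ∈ (S : Subgroup X), s * s = 1 := by
    intro s hs
    refine hX.inj (MulEquiv.ext fun v => ?_)
    have hsu : s * u = u * s := hE.central hD u huS hu s hs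
    have h1 : ρ s (hX.del u v) = hX.del u v := by
      refine QMod.mem_fixAll.mp ?_ s hs
      rw [← hW, ← hfix u huS hu, ← hX.range_del hu]
      exact ⟨v, rfl⟩
    have h2 : hX.del u (ρ s v) = hX.del u v := by
      rw [hX.del_apply, hX.del_apply, ← QMod.act_mul, ← hsu, QMod.act_mul, ← map_mul, ← hX.del_apply,
        h1]
    have h3 : ρ s v * v ∈ W := by
      rw [← hfix u huS hu, ← hX.ker_del u, MonoidHom.mem_ker, map_mul, h2, hX.vsq]
    have h4 := QMod.mem_fixAll.mp h3 s hs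
    rw [map_mul, hX.comm (ρ s v) v] at h4
    rw [QMod.act_mul, QMod.act_one]
    exact mul_right_cancel h4
  have hS : Nat.card (S : Subgroup X) = q := by
    refine le_antisymm ?_ ?_
    · rw [hq, hE.card_eq]; exact card_le_involutions le_rfl hsq
    · exact le_trans (by omega : q ≤ Nat.card A) (Subgroup.card_le_of_le hA)
  obtain ⟨n, hn⟩ := IsPGroup.iff_card.mp S.2
  rw [hS] at hn
  have hE2 : 2 ≤ Nat.card E := by
    obtain ⟨a, ha, b, hb, ha2, hb2, hab⟩ := hD.two_involutions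
    rw [hE.card_eq]
    haveI : Nontrivial {a : X // a ∈ (S : Subgroup X) ∧ orderOf a = 2} :=
      ⟨⟨⟨a, ha, ha2⟩, ⟨b, hb, hb2⟩, fun h => hab (congrArg Subtype.val h)⟩⟩
    exact Finite.one_lt_card
  have hn2 : 2 ≤ n := by
    by_contra h
    interval_cases n <;> simp at hn <;> omega
  have hcard : Nat.card X = q * (q ^ 2 - 1) := by
    rw [← Subgroup.card_mul_index (normalizer ((S : Subgroup X) : Set X)), hE.index_eq, ← hE.sup_eq,
      card_sup_eq_mul_of_inf_bot hE.le_normalizer hE.inf_eq, hS, show Nat.card E = q - 1 by omega,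
      mul_assoc]
    congr 1
    rw [mul_comm]
    simpa using (Nat.sq_sub_sq q 1).symm
  obtain ⟨F, iF, iFt, hF, hiso⟩ := psl_of_zassenhaus (hz X S hD) hn2 (hn ▸ hcard)
  obtain ⟨p, hp, hpE⟩ := Nat.exists_prime_and_dvd (show Nat.card E ≠ 1 by omega)
  haveI := Fact.mk hp
  obtain ⟨x, hx⟩ := exists_prime_orderOf_dvd_card' (G := E) p hpE
  obtain ⟨v, hvS, hv1, hv3⟩ := hE.cube fun h hh => by rw [sq]; exact hsq h hh
  refine ⟨q, by omega, ⟨n, hn⟩, by rw [← hX.card_fix_sq hu, hrq], hS, hsq, hWq,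
    fun v hv hv1 => hfix v hv (Invol.orderOf_eq_two_of hv1 (hsq v hv)),
    ⟨F, iF, iFt, hF.trans hn.symm, hiso⟩, E, t, (x : X), hE.le_normalizer, rfl, hE.sup_eq, hE.comm,
    hE.order_t, hE.not_mem, hE.inverts, fun h => ?_, ?_, hodd _ x.2, hE.inverts _ x.2,
    fun e he => congrArg Subtype.val (hE.comm.is_comm.comm x ⟨e, he⟩), v, hvS, hv1, hv3⟩
  · rw [← orderOf_eq_one_iff, Subgroup.orderOf_coe, hx] at h
    exact hp.ne_one h
  · rw [Subgroup.orderOf_coe, hx]; exact hp

/-- §3 (c) in the quotient. -/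
theorem QMod.shape (hX : QMod ρ) [Nontrivial X] {n : ℕ} (hK : SmallerKnown.{u} n)
    (hn : Nat.card X < n) (hti : TIHolds.{u}) (hz : ZassenhausHolds.{u}) (S : Sylow 2 X)
    {A : Subgroup X} (hA : A ≤ (S : Subgroup X)) (hA1 : A ≠ ⊥) (hA2 : ∀ a ∈ A, a * a = 1)
    (hff : Nat.card V ≤ Nat.card A * Nat.card (QMod.fixAll ρ A)) :
    ∃ q, QShape ρ (S : Subgroup X) q := by
  obtain ⟨u, huA, hu1⟩ := A.bot_or_exists_ne_one.resolve_left hA1
  have hu : orderOf u = 2 := Invol.orderOf_eq_two_of hu1 (hA2 u huA)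
  have hr : Nat.card (QMod.fix ρ u) ≤ Nat.card A := by
    refine Nat.le_of_mul_le_mul_right ?_ (Nat.card_pos (α := QMod.fix ρ u))
    rw [← sq, hX.card_fix_sq hu]
    exact hff.trans (Nat.mul_le_mul_left _ (Subgroup.card_le_of_le (QMod.fixAll_le_fix huA)))
  rcases hX.cases hK hn hti with h | ⟨hs, hna, hTI, hO⟩
  · haveI := hX.nontrivial
    have h2 : Nat.card A ≤ 2 := by
      refine le_trans (Subgroup.card_le_of_le (show A ≤ zpowers u from fun a ha => ?_))
        (le_of_eq (by rw [Nat.card_zpowers, hu]))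
      rcases eq_or_ne a 1 with rfl | ha1
      · exact one_mem _
      · have hcomm : a * u = u * a := by
          have h3 := hA2 _ (mul_mem ha huA)
          calc a * u = (a * u)⁻¹ := eq_inv_of_mul_eq_one_left h3
            _ = u * a := by
              rw [mul_inv_rev, Invol.inv_eq_self hu,
                Invol.inv_eq_self (Invol.orderOf_eq_two_of ha1 (hA2 a ha))]
        rw [h a u (Invol.orderOf_eq_two_of ha1 (hA2 a ha)) hu hcomm]
        exact mem_zpowers u
    have hV := hX.card_fix_sq hu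
    have h1 := Finite.one_lt_card (α := V)
    have hcases : Nat.card (QMod.fix ρ u) = 2 := by
      have : Nat.card (QMod.fix ρ u) ≤ 2 := hr.trans h2
      by_contra h'
      have : Nat.card (QMod.fix ρ u) ^ 2 ≤ 1 := by
        calc Nat.card (QMod.fix ρ u) ^ 2 ≤ 1 ^ 2 := Nat.pow_le_pow_left (by omega) 2
          _ = 1 := one_pow 2
      omega
    exact ⟨2, hX.shape_of_unique S (hA huA) hu (by rw [← hV, hcases]; rfl)⟩
  · exact hX.shape_of_simple hna hO hTI S hti hz hA hA2 huA hu hr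

end Cfsg.Lib.CIT
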