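import Cfsg.Agent.Lib.CIT.Quot.Exclude
import Cfsg.Agent.Lib.ZStar.Main

/-!
# The structure of a CIT group acting fixed point freely

§3 (a), (b) of `notes/cit_lead.md`: such a group has TI Sylow 2-subgroups, and either each of its Sylow
2-subgroups has only one involution or it is simple.
-/

set_option autoImplicit false
set_option linter.style.haveILetI false
set_option linter.unusedSectionVars false

namespace Cfsg.Lib.CIT

open Subgroup
open scoped Pointwise

universe u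

/-- The conclusion of the TI counting theorem, as a statement. -/
def TIHolds : Prop :=
  ∀ (Y : Type u) [Group Y] [Finite Y] (H : Subgroup Y), TIData H → ∃ E t, TIShape H E t

theorem card_sup_eq_mul_of_inf_bot {Y : Type u} [Group Y] {A B : Subgroup Y}
    (hB : B ≤ normalizer (A : Set Y)) (h : A ⊓ B = ⊥) :
    Nat.card ↥(A ⊔ B) = Nat.card A * Nat.card B := by
  rw [← Nat.card_prod]
  refine (Nat.card_congr (Equiv.ofBijective
    (fun q : A × B => (⟨q.1 * q.2, mul_mem (mem_sup_left q.1.2) (mem_sup_right q.2.2)⟩ : ↥(A ⊔ B)))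
    ⟨?_, ?_⟩)).symm
  · rintro ⟨a, b⟩ ⟨a', b'⟩ e
    exact Subgroup.mul_injective_of_disjoint (disjoint_iff.mpr h) (congrArg Subtype.val e)
  · rintro ⟨x, hx⟩
    rw [← SetLike.mem_coe, coe_mul_of_right_le_normalizer_left A B hB] at hx
    obtain ⟨a, ha, b, hb, rfl⟩ := hx
    exact ⟨(⟨a, ha⟩, ⟨b, hb⟩), rfl⟩

variable {X V : Type u} [Group X] [Group V] [Finite X] [Finite V] {ρ : X →* MulAut V}

/-- The centralizer of a central involution of a Sylow 2-subgroup is that subgroup. -/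
theorem centralizer_eq_sylow_of_cit (hG : IsCIT X) (S : Sylow 2 X) {z : X} (hz : orderOf z = 2)
    (hc : ∀ s ∈ (S : Subgroup X), s * z = z * s) : centralizer ({z} : Set X) = (S : Subgroup X) :=
  S.3 (hG z hz) fun s hs => mem_centralizer_singleton_iff.mpr (hc s hs)

theorem exists_involution_of_ne_bot {P : Subgroup X} (hP : IsPGroup 2 P) (hne : P ≠ ⊥) :
    ∃ z ∈ P, orderOf z = 2 := by
  haveI : Fact (Nat.Prime 2) := ⟨Nat.prime_two⟩
  obtain ⟨k, hk⟩ := IsPGroup.iff_card.mp hP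
  have hk0 : k ≠ 0 := fun h => hne (Subgroup.eq_bot_of_card_eq _ (by rw [hk, h, pow_zero]))
  obtain ⟨z, hz⟩ := exists_prime_orderOf_dvd_card' (G := P) 2 (hk ▸ dvd_pow_self 2 hk0)
  exact ⟨z, z.2, by rw [← hz, Subgroup.orderOf_coe]⟩

/-- Sylow 2-subgroups in which all involutions are central are TI. -/
theorem sylowTI_of_central (hG : IsCIT X)
    (h : ∀ S : Sylow 2 X, ∀ z ∈ (S : Subgroup X), orderOf z = 2 →
      ∀ s ∈ (S : Subgroup X), s * z = z * s) : SylowTI X := by
  intro S T hne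
  by_contra hbot
  obtain ⟨z, ⟨hzS, hzT⟩, hz⟩ := exists_involution_of_ne_bot (S.2.to_le inf_le_left) hbot
  exact hne (Sylow.ext ((centralizer_eq_sylow_of_cit hG S hz (h S z hzS hz)).symm.trans
    (centralizer_eq_sylow_of_cit hG T hz (h T z hzT hz))))

theorem eq_one_of_oddCore {x : X} (hx : x ∈ oddCore X) {H : Subgroup X} (hH : IsPGroup 2 H)
    (hxH : x ∈ H) : x = 1 := by
  have h1 : (Nat.card (oddCore X)).Coprime 2 := Core.pPrimeCore_coprime 2 X
  obtain ⟨k, hk⟩ := hH ⟨x, hxH⟩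
  have h2 : orderOf x ∣ 2 ^ k := orderOf_dvd_of_pow_eq_one (congrArg Subtype.val hk :)
  exact orderOf_eq_one_iff.mp (((h1.coprime_dvd_left
    (Subgroup.orderOf_dvd_natCard _ hx)).pow_right k).eq_one_of_dvd h2)

/-- If the odd core is nontrivial, commuting involutions are equal. -/
theorem eq_of_commute_of_oddCore (hG : IsCIT X) (hO : oddCore X ≠ ⊥) {u v : X} (hu : orderOf u = 2)
    (hv : orderOf v = 2) (hc : u * v = v * u) : u = v := by
  by_contra hne
  have hn : (oddCore X).Normal := inferInstance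
  have key : ∀ w : X, orderOf w = 2 → ∀ x ∈ oddCore X, w * x * w⁻¹ = x⁻¹ := by
    intro w hw x hx
    let f : oddCore X → oddCore X := fun y =>
      ⟨(y : X)⁻¹ * (w * y * w⁻¹), mul_mem (inv_mem y.2) (hn.conj_mem _ y.2 w)⟩
    have hinj : Function.Injective f := by
      intro a b e
      have e' : (a : X)⁻¹ * (w * a * w⁻¹) = (b : X)⁻¹ * (w * b * w⁻¹) := congrArg Subtype.val e
      have hfix : w * ((b : X) * (a : X)⁻¹) * w⁻¹ = (b : X) * (a : X)⁻¹ := by
        calc w * ((b : X) * (a : X)⁻¹) * w⁻¹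
            = (b : X) * ((b : X)⁻¹ * (w * b * w⁻¹)) * ((a : X)⁻¹ * (w * a * w⁻¹))⁻¹ * (a : X)⁻¹ := by group
          _ = (b : X) * (a : X)⁻¹ := by rw [← e', mul_inv_cancel_right]
      have := eq_one_of_oddCore (mul_mem b.2 (inv_mem a.2)) (hG w hw)
        (mem_centralizer_singleton_iff.mpr (mul_inv_eq_iff_eq_mul.mp hfix).symm)
      exact Subtype.ext (mul_inv_eq_one.mp this).symm
    obtain ⟨y, hy⟩ := (Finite.injective_iff_surjective.mp hinj) ⟨x, hx⟩
    have hy' : (y : X)⁻¹ * (w * y * w⁻¹) = x := congrArg Subtype.val hy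
    rw [← hy', mul_inv_rev, inv_inv, mul_inv_rev, mul_inv_rev, inv_inv]
    calc w * ((y : X)⁻¹ * (w * y * w⁻¹)) * w⁻¹ = w * (y : X)⁻¹ * w * y * (w * w)⁻¹ := by group
      _ = _ := by rw [Invol.inv_mul_self hw, inv_one, mul_one, Invol.inv_eq_self hw]; group
  have huv : orderOf (u * v) = 2 := Invol.orderOf_eq_two_of
    (fun h => hne ((eq_inv_of_mul_eq_one_left h).trans (Invol.inv_eq_self hv)))
    (by rw [mul_assoc, ← mul_assoc v, ← hc, mul_assoc u v v, Invol.inv_mul_self hv, mul_one,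
      Invol.inv_mul_self hu])
  refine hO ((eq_bot_iff_forall _).mpr fun x hx => eq_one_of_oddCore hx (hG _ huv) ?_)
  refine mem_centralizer_singleton_iff.mpr (mul_inv_eq_iff_eq_mul.mp ?_).symm
  calc u * v * x * (u * v)⁻¹ = u * (v * x * v⁻¹) * u⁻¹ := by group
    _ = x := by rw [key v hv x hx, key u hu _ (inv_mem hx), inv_inv]

theorem QMod.restrict (hX : QMod ρ) (N : Subgroup X) [N.Normal] : QMod (ρ.comp N.subtype) where
  cit := hX.cit.subgroup N
  inj := hX.inj.comp N.subtype_injective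
  comm := hX.comm
  vsq := hX.vsq
  nontrivial := hX.nontrivial
  fpf x hx ho v hv := hX.fpf (x : X) (fun e => hx (Subtype.ext e)) (by rwa [Subgroup.orderOf_coe]) v hv
  two_core K hK hK2 := by
    haveI : Fact (Nat.Prime 2) := ⟨Nat.prime_two⟩
    have h := hX.two_core _ (Core.normal_map_char_of_normal (Cfsg.pCore 2 N))
      ((Core.pCore_isPGroup 2 N).map _)
    rw [Subgroup.map_eq_bot_iff_of_injective _ N.subtype_injective] at h
    exact le_bot_iff.mp (h ▸ Core.le_pCore' hK hK2)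

theorem oddCore_subgroup_eq_bot (hO : oddCore X = ⊥) (N : Subgroup X) [N.Normal] :
    oddCore N = ⊥ := by
  have h : (oddCore N).map N.subtype ≤ oddCore X :=
    Core.le_pPrimeCore' (Core.normal_map_char_of_normal _)
      (by rw [Core.card_map_subtype]; exact Core.pPrimeCore_coprime 2 N)
  rw [hO, le_bot_iff, Subgroup.map_eq_bot_iff_of_injective _ N.subtype_injective] at h
  exact h

theorem QMod.even_card (hX : QMod ρ) [Nontrivial X] (hO : oddCore X = ⊥) : 2 ∣ Nat.card X := by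
  by_contra h
  have h1 : (⊤ : Subgroup X) ≤ oddCore X := Core.le_pPrimeCore' inferInstance
    (by rw [Subgroup.card_top]; exact ((Nat.prime_two.coprime_iff_not_dvd).mpr h).symm)
  rw [hO, top_le_iff] at h1
  exact bot_ne_top h1

/-- A simple group of this kind, known by induction, has TI Sylow 2-subgroups. -/
theorem QMod.sylowTI_of_simple (hX : QMod ρ) [IsSimpleGroup X] (hna : ¬ IsMulCommutative X) {n : ℕ}
    (hK : SmallerKnown.{u} n) (hn : Nat.card X < n) : SylowTI X := by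
  rcases hK X hna hX.cit hn with h | h | h
  · exact h
  · exact (hX.no_dihedral hna h).elim
  · exact (hX.no_linear_three_four h).elim

theorem QMod.tiData (hX : QMod ρ) [IsSimpleGroup X] (hna : ¬ IsMulCommutative X) (hO : oddCore X = ⊥)
    (hTI : SylowTI X) (S : Sylow 2 X) : TIData (S : Subgroup X) := by
  haveI : Fact (Nat.Prime 2) := ⟨Nat.prime_two⟩
  have hne : (S : Subgroup X) ≠ ⊥ := S.ne_bot_of_dvd_card (hX.even_card hO)
  haveI : Nontrivial (S : Subgroup X) := (nontrivial_iff_ne_bot _).mpr hne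
  obtain ⟨z, -, hzc, hz⟩ := PGroup.exists_mem_center_orderOf_eq S.2
    (N := (⊤ : Subgroup (S : Subgroup X))) top_ne_bot
  have hz' : orderOf (z : X) = 2 := by rw [Subgroup.orderOf_coe, hz]
  refine ⟨fun h => hne (hX.two_core _ (normalizer_eq_top_iff.mp h) S.2), S.card_coprime_index,
    fun g hg => ?_, fun h hh hh1 => ?_,
    ⟨z, z.2, hz', fun h hh => congrArg Subtype.val (mem_center_iff.mp hzc ⟨h, hh⟩)⟩, ?_⟩
  · have hne' : S ≠ g • S := fun e => hg (Sylow.smul_eq_iff_mem_normalizer.mp e.symm)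
    exact hTI S (g • S) hne'
  · obtain ⟨k, hk⟩ := S.2 ⟨h, hh⟩
    obtain ⟨Q, hQ⟩ := (hX.cit.isPGroup_centralizer ⟨k, congrArg Subtype.val hk⟩ hh1).exists_le_sylow
    suffices hQS : Q = S from hQS ▸ hQ
    by_contra hne'
    have : h ∈ (Q : Subgroup X) ⊓ (S : Subgroup X) := ⟨hQ (mem_centralizer_singleton_iff.mpr rfl), hh⟩
    rw [hTI Q S hne'] at this
    exact hh1 this
  · by_contra h2
    push Not at h2
    have hc := ZStar.mem_center_of_isolated hO (ZStar.isolated_of_unique_involution S hz'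
      fun x hx hx2 => h2 x hx z z.2 hx2 hz')
    have hcb : center X = ⊥ := by
      rcases (inferInstance : (center X).Normal).eq_bot_or_eq_top with e | e
      · exact e
      · exact absurd ⟨⟨fun a b => (mem_center_iff.mp (e ▸ mem_top a : a ∈ center X) b).symm⟩⟩ hna
    rw [hcb, Subgroup.mem_bot] at hc
    rw [hc, orderOf_one] at hz'
    omega

theorem TIShape.central {S : Subgroup X} {E : Subgroup X} {t : X} (hD : TIData S)
    (h : TIShape S E t) : ∀ a ∈ S, orderOf a = 2 → ∀ s ∈ S, s * a = a * s := by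
  intro a ha ha2 s hs
  obtain ⟨z, hzS, hz, hzc⟩ := hD.central
  obtain ⟨e, he, -⟩ := h.regular z hzS a ha hz ha2
  have hs' := (mem_normalizer_iff''.mp (h.le_normalizer e.2) s).mp hs
  rw [← he]
  calc s * ((e : X) * z * (e : X)⁻¹) = (e : X) * ((e : X)⁻¹ * s * e * z) * (e : X)⁻¹ := by group
    _ = (e : X) * z * (e : X)⁻¹ * s := by rw [hzc _ hs']; group

/-- A nontrivial group of this kind with trivial odd core has a simple nonabelian minimal normal
subgroup with trivial centralizer. -/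
theorem QMod.exists_simple_normal (hX : QMod ρ) [Nontrivial X] (hO : oddCore X = ⊥) :
    ∃ N : Subgroup X, ∃ _ : N.Normal, IsSimpleGroup N ∧ ¬ IsMulCommutative N := by
  haveI : Fact (Nat.Prime 2) := ⟨Nat.prime_two⟩
  obtain ⟨N, hNn, hNb, hNmin⟩ : ∃ N : Subgroup X, N.Normal ∧ N ≠ ⊥ ∧
      ∀ K : Subgroup X, K.Normal → K ≤ N → K ≠ ⊥ → K = N := by
    obtain ⟨N, -, hN⟩ := exists_minimal_le_of_wellFoundedLT
      (fun N : Subgroup X => N.Normal ∧ N ≠ ⊥) ⊤ ⟨inferInstance, top_ne_bot⟩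
    exact ⟨N, hN.prop.1, hN.prop.2, fun K hK hle hne => le_antisymm hle (hN.2 ⟨hK, hne⟩ hle)⟩
  haveI := hNn
  have hY := hX.restrict N
  have hON := oddCore_subgroup_eq_bot hO N
  haveI : Nontrivial N := (nontrivial_iff_ne_bot _).mpr hNb
  refine ⟨N, hNn, ⟨fun K hK => ?_⟩, fun hc => ?_⟩
  · by_contra hKtriv
    push Not at hKtriv
    obtain ⟨L, hLK, hL⟩ := exists_minimal_le_of_wellFoundedLT
      (fun L : Subgroup N => L.Normal ∧ L ≠ ⊥) K ⟨hK, hKtriv.1⟩
    haveI := hL.prop.1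
    -- some conjugate of `L` differs from `L`
    obtain ⟨x, hx⟩ : ∃ x : X, ¬ ∀ l ∈ L, ∀ hl : x * (l : X) * x⁻¹ ∈ N,
        (⟨_, hl⟩ : N) ∈ L := by
      by_contra h
      push Not at h
      have hn : (L.map N.subtype).Normal := ⟨fun a ha x => by
        obtain ⟨l, hl, rfl⟩ := ha
        exact ⟨⟨_, hNn.conj_mem _ l.2 x⟩, h x l hl _, rfl⟩⟩
      have htop := hNmin _ hn (map_subtype_le _)
        ((Subgroup.map_eq_bot_iff_of_injective _ N.subtype_injective).not.mpr hL.prop.2)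
      refine hKtriv.2 (top_le_iff.mp (le_trans (fun y _ => ?_) hLK))
      obtain ⟨l, hl, hly⟩ := (htop.symm ▸ y.2 : (y : X) ∈ L.map N.subtype)
      rwa [← Subtype.ext hly]
    let c : N ≃* N := MulAut.conjNormal x
    set L₂ := L.map c.toMonoidHom with hL₂
    haveI : L₂.Normal := Subgroup.Normal.map inferInstance _ c.surjective
    have hinf : L ⊓ L₂ = ⊥ := by
      by_contra hne
      have h1 : L ≤ L ⊓ L₂ := hL.2 ⟨Subgroup.normal_inf_normal L L₂, hne⟩ inf_le_left
      have h2 : L = L₂ := Subgroup.eq_of_le_of_card_ge (h1.trans inf_le_right)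
        (le_of_eq (Nat.card_congr (L.equivMapOfInjective c.toMonoidHom c.injective).toEquiv).symm)
      refine hx fun l hl hlN => ?_
      have : c l ∈ L₂ := ⟨l, hl, rfl⟩
      rw [← h2] at this
      convert this using 1
      exact Subtype.ext (MulAut.conjNormal_apply x l).symm
    have hcomm : ∀ a ∈ L, ∀ b ∈ L₂, a * b = b * a := fun a ha b hb =>
      Subgroup.commute_of_normal_of_disjoint L L₂ inferInstance inferInstance
        (disjoint_iff.mpr hinf) a b ha hb
    obtain ⟨u, hu, hu2⟩ : ∃ u ∈ L, orderOf u = 2 := by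
      have heven : 2 ∣ Nat.card L := by
        by_contra hodd
        have : L ≤ oddCore N := Core.le_pPrimeCore ((Nat.prime_two.coprime_iff_not_dvd).mpr hodd).symm
        rw [hON, le_bot_iff] at this
        exact hL.prop.2 this
      obtain ⟨u, hu⟩ := exists_prime_orderOf_dvd_card' (G := L) 2 heven
      exact ⟨u, u.2, by rw [← hu, Subgroup.orderOf_coe]⟩
    have hL22 : IsPGroup 2 L₂ := (hY.cit u hu2).to_le fun b hb =>
      mem_centralizer_singleton_iff.mpr (hcomm u hu b hb).symm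
    have hb := hY.two_core L₂ inferInstance hL22
    exact hL.prop.2 ((Subgroup.map_eq_bot_iff_of_injective L (f := c.toMonoidHom) c.injective).mp hb)
  · obtain ⟨u, hu⟩ := exists_prime_orderOf_dvd_card' (G := N) 2 (hY.even_card hON)
    have h2 : IsPGroup 2 N := ((hY.cit u hu).to_le (show (⊤ : Subgroup N) ≤ _ from fun b _ =>
      mem_centralizer_singleton_iff.mpr (hc.is_comm.comm b u))).of_equiv topEquiv
    exact hNb (hX.two_core N hNn h2)

/-- With trivial odd core the group is simple and has TI Sylow 2-subgroups. -/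
theorem QMod.simple_of_oddCore_bot (hX : QMod ρ) [Nontrivial X] (hO : oddCore X = ⊥) {n : ℕ}
    (hK : SmallerKnown.{u} n) (hn : Nat.card X < n) (hti : TIHolds.{u}) :
    IsSimpleGroup X ∧ ¬ IsMulCommutative X ∧ SylowTI X := by
  haveI : Fact (Nat.Prime 2) := ⟨Nat.prime_two⟩
  obtain ⟨N, hNn, hNs, hNna⟩ := hX.exists_simple_normal hO
  haveI := hNn
  haveI := hNs
  have hY := hX.restrict N
  have hON := oddCore_subgroup_eq_bot hO N
  have hNTI := hY.sylowTI_of_simple hNna hK
    (lt_of_le_of_lt (Subgroup.card_le_card_group N) hn)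
  suffices hN : N = ⊤ by
    subst hN
    have hs : IsSimpleGroup X := Subgroup.topEquiv.symm.isSimpleGroup
    have hna : ¬ IsMulCommutative X := fun hc => hNna ⟨⟨fun a b => Subtype.ext (hc.is_comm.comm _ _)⟩⟩
    exact ⟨hs, hna, hX.sylowTI_of_simple hna hK hn⟩
  by_contra hNtop
  obtain ⟨P⟩ : Nonempty (Sylow 2 N) := inferInstance
  have hD := hY.tiData hNna hON hNTI P
  obtain ⟨E, t, hE⟩ := hti N P hD
  set T := (P : Subgroup N).map N.subtype with hT
  obtain ⟨z, hzP, hz, hzc⟩ := hD.central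
  -- the preimage of a coset is a two-element
  have hfrat := Sylow.normalizer_sup_eq_top P
  have hpow : ∀ g : X, ∃ j, g ^ 2 ^ j ∈ N := by
    intro g
    obtain ⟨a, ha, m, hm, rfl⟩ := Subgroup.mem_sup_of_normal_right.mp
      (hfrat.symm ▸ Subgroup.mem_top g : g ∈ normalizer (T : Set X) ⊔ N)
    have hza : a * (z : X) * a⁻¹ ∈ T := (mem_normalizer_iff.mp ha _).mp ⟨z, hzP, rfl⟩
    obtain ⟨w, hwP, hw⟩ := hza
    have hw2 : orderOf w = 2 := by
      rw [← Subgroup.orderOf_coe w, show (w : X) = a * z * a⁻¹ from hw, Invol.orderOf_conj_eq,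
        Subgroup.orderOf_coe, hz]
    obtain ⟨e, he, -⟩ := hE.regular z hzP w hwP hz hw2
    set c := ((e : N) : X)⁻¹ * a
    have hc : c * z * c⁻¹ = z := by
      calc c * z * c⁻¹ = ((e : N) : X)⁻¹ * (a * z * a⁻¹) * ((e : N) : X) := by simp only [c]; group
        _ = z := by
          rw [← show (w : X) = a * z * a⁻¹ from hw, ← he]
          push_cast; group
    obtain ⟨j, hj⟩ := hX.cit (z : X) (by rw [Subgroup.orderOf_coe, hz])
      ⟨c, mem_centralizer_singleton_iff.mpr (mul_inv_eq_iff_eq_mul.mp hc)⟩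
    refine ⟨j, (QuotientGroup.eq_one_iff _).mp ?_⟩
    rw [QuotientGroup.mk_pow, QuotientGroup.mk_mul, (QuotientGroup.eq_one_iff m).mpr hm, mul_one,
      show (a : X ⧸ N) = (c : X ⧸ N) by
        rw [show a = ((e : N) : X) * c by simp only [c]; group, QuotientGroup.mk_mul,
          (QuotientGroup.eq_one_iff ((e : N) : X)).mpr (e : N).2, one_mul],
      ← QuotientGroup.mk_pow]
    rw [show c ^ 2 ^ j = 1 from congrArg Subtype.val hj]
    rfl
  -- a prime element of the complement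
  have hEcard : 2 ≤ Nat.card E := by
    obtain ⟨a, ha, b, hb, ha2, hb2, hab⟩ := hD.two_involutions
    rw [hE.card_eq]
    haveI : Nontrivial {a : N // a ∈ (P : Subgroup N) ∧ orderOf a = 2} :=
      ⟨⟨⟨a, ha, ha2⟩, ⟨b, hb, hb2⟩, fun h => hab (congrArg Subtype.val h)⟩⟩
    exact Finite.one_lt_card
  obtain ⟨p, hp, hpE⟩ := Nat.exists_prime_and_dvd (show Nat.card E ≠ 1 by omega)
  haveI := Fact.mk hp
  have hEodd : ∀ e ∈ E, Odd (orderOf e) := by
    intro e he
    by_contra hev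
    rw [Nat.not_odd_iff_even, even_iff_two_dvd] at hev
    have hoe : orderOf (e ^ (orderOf e / 2)) = 2 := by
      rw [orderOf_pow, Nat.gcd_eq_right (Nat.div_dvd_of_dvd hev), Nat.div_div_self hev (orderOf_pos e).ne']
    -- a two-group normalizing `P` lies in it
    have hle : zpowers (e ^ (orderOf e / 2)) ≤ normalizer ((P : Subgroup N) : Set N) :=
      (zpowers_le.mpr (pow_mem he _)).trans hE.le_normalizer
    have hp2 : IsPGroup 2 ↥((P : Subgroup N) ⊔ zpowers (e ^ (orderOf e / 2))) :=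
      IsPGroup.to_sup_of_normal_left' P.2 (IsPGroup.of_card (n := 1)
        (by rw [Nat.card_zpowers, hoe, pow_one])) hle
    have hmem : e ^ (orderOf e / 2) ∈ (P : Subgroup N) ⊓ E :=
      ⟨(P.3 hp2 le_sup_left) ▸ mem_sup_right (mem_zpowers _), pow_mem he _⟩
    rw [hE.inf_eq, Subgroup.mem_bot] at hmem
    rw [hmem, orderOf_one] at hoe
    omega
  -- the normalizer of a Sylow subgroup of the complement
  set B := normalizer ((P : Subgroup N) : Set N) with hB
  have hcomm : ∀ a ∈ E, ∀ b ∈ E, a * b = b * a := fun a ha b hb =>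
    congrArg Subtype.val (hE.comm.is_comm.comm ⟨a, ha⟩ ⟨b, hb⟩)
  obtain ⟨e₀, he₀⟩ := exists_prime_orderOf_dvd_card' (G := E) p hpE
  obtain ⟨Q₀⟩ : Nonempty (Sylow p E) := inferInstance
  set Q := ((Q₀ : Subgroup E).map E.subtype).map N.subtype with hQ
  have hQne : ∃ q ∈ (Q₀ : Subgroup E).map E.subtype, q ≠ 1 := by
    have := (Q₀.ne_bot_of_dvd_card hpE)
    obtain ⟨q, hq, hq1⟩ := (Q₀ : Subgroup E).bot_or_exists_ne_one.resolve_left this
    exact ⟨q, ⟨q, hq, rfl⟩, fun e => hq1 (Subtype.ext e)⟩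
  obtain ⟨q, hqQ, hq1⟩ := hQne
  have hqE : q ∈ E := map_subtype_le _ hqQ
  -- elements of `B` normalizing `Q` lie in `E`
  have hBQ : ∀ b ∈ B, (b : X) ∈ normalizer (Q : Set X) → b ∈ E := by
    intro b hb hbQ
    rw [hB, ← hE.sup_eq, sup_comm] at hb
    obtain ⟨e, he, h, hh, rfl⟩ := (Core.mem_sup_of_le_normalizer hE.le_normalizer).mp hb
    have he' : ((e : N) : X) ∈ normalizer (Q : Set X) := by
      refine Core.le_normalizer_iff_conj_mem.mpr ?_ (mem_zpowers ((e : N) : X))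
      intro g hg r hr
      obtain ⟨r', hr', rfl⟩ := hr
      obtain ⟨i, rfl⟩ := mem_zpowers_iff.mp hg
      refine ⟨r', hr', ?_⟩
      have hc : e ^ i * r' * (e ^ i)⁻¹ = r' :=
        mul_inv_eq_iff_eq_mul.mpr (hcomm _ (zpow_mem he i) _ (map_subtype_le _ hr'))
      conv_lhs => rw [← hc]
      simp
    have hhQ : (h : X) ∈ normalizer (Q : Set X) := by
      have h' := mul_mem (inv_mem he') hbQ
      push_cast at h'
      simpa using h'
    obtain ⟨q', hq'Q, hq'⟩ := (mem_normalizer_iff.mp hhQ (q : X)).mp ⟨q, hqQ, rfl⟩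
    have hq'N : q' = h * q * h⁻¹ := Subtype.ext (by simpa using hq')
    have hd : q' * q⁻¹ ∈ (P : Subgroup N) ⊓ E := by
      refine Subgroup.mem_inf.mpr ⟨?_, mul_mem (map_subtype_le _ hq'Q) (inv_mem hqE)⟩
      rw [hq'N, show h * q * h⁻¹ * q⁻¹ = h * (q * h⁻¹ * q⁻¹) by group]
      exact mul_mem hh ((mem_normalizer_iff.mp (hE.le_normalizer hqE) _).mp (inv_mem hh))
    rw [hE.inf_eq, Subgroup.mem_bot, hq'N, mul_inv_eq_one, mul_inv_eq_iff_eq_mul] at hd
    rw [hY.cit.fpf P.2 hq1 (hEodd q hqE) hh hd.symm, mul_one]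
    exact he
  -- an involution outside `N` normalizing `T` and `Q`
  have hBn : normalizer (T : Set X) ≤ normalizer ((B.map N.subtype : Subgroup X) : Set X) := by
    refine Core.le_normalizer_iff_conj_mem.mpr ?_
    rintro g hg _ ⟨b, hb, rfl⟩
    refine ⟨⟨_, hNn.conj_mem _ b.2 g⟩, mem_normalizer_iff.mpr fun v => ?_, rfl⟩
    have hmemT : ∀ w : N, w ∈ (P : Subgroup N) ↔ (w : X) ∈ T := fun w =>
      ⟨fun h => ⟨w, h, rfl⟩, fun ⟨w', hw', e⟩ => Subtype.ext e ▸ hw'⟩
    rw [hmemT, hmemT, mem_normalizer_iff''.mp hg (v : X)]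
    have hg' := mem_normalizer_iff.mp hg
    have hb' : ∀ v : X, v ∈ N → (v ∈ T ↔ (b : X) * v * (b : X)⁻¹ ∈ T) := fun v hv => by
      have := mem_normalizer_iff.mp hb ⟨v, hv⟩
      rwa [hmemT, hmemT] at this
    rw [hb' _ (by simpa using hNn.conj_mem _ v.2 g⁻¹), hg' _]
    push_cast
    rw [show g * ((b : X) * (g⁻¹ * (v : X) * g) * (b : X)⁻¹) * g⁻¹ =
      g * (b : X) * g⁻¹ * (v : X) * (g * (b : X) * g⁻¹)⁻¹ by group]
  have hfrat2 : ∀ g ∈ normalizer (T : Set X), ∃ b ∈ B, ((b : X) * g) ∈ normalizer (Q : Set X) := by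
    intro g hg
    -- `Q` and its conjugate are Sylow subgroups of the normalizer of `P` in `N`
    have hEB : E ≤ B := hE.le_normalizer
    set Q₁ := ((Q₀ : Subgroup E).map E.subtype).subgroupOf B with hQ₁
    have hQ₁p : IsPGroup p Q₁ := (Q₀.2.map _).comap_subtype
    have hidx : ¬ p ∣ Q₁.index := by
      have h1 := Q₁.card_mul_index
      rw [hQ₁, Nat.card_congr (Subgroup.subgroupOfEquivOfLe
        ((map_subtype_le _).trans hEB)).toEquiv, Core.card_map_subtype, ← hQ₁] at h1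
      have h2 : Nat.card B = Nat.card (P : Subgroup N) * Nat.card E := by
        rw [hB, ← hE.sup_eq, card_sup_eq_mul_of_inf_bot hE.le_normalizer hE.inf_eq]
      have h3 := (Q₀ : Subgroup E).card_mul_index
      rw [h2, ← h3, mul_left_comm] at h1
      have h4 : Q₁.index = Nat.card (P : Subgroup N) * (Q₀ : Subgroup E).index :=
        Nat.eq_of_mul_eq_mul_left Nat.card_pos h1
      rw [h4]
      intro hd
      rcases hp.dvd_mul.mp hd with hd | hd
      · obtain ⟨k, hk⟩ := IsPGroup.iff_card.mp P.2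
        rw [hk] at hd
        have hp2 := (Nat.prime_dvd_prime_iff_eq hp Nat.prime_two).mp (hp.dvd_of_dvd_pow hd)
        have := hEodd e₀ e₀.2
        rw [Subgroup.orderOf_coe, he₀, hp2] at this
        exact absurd this (by decide)
      · exact Q₀.not_dvd_index hd
    let R := hQ₁p.toSylow hidx
    have hgB : ∀ b : B, g * ((b : N) : X) * g⁻¹ ∈ B.map N.subtype := fun b =>
      (mem_normalizer_iff.mp (hBn hg) _).mp ⟨b, b.2, rfl⟩
    let σ : B →* B :=
      MonoidHom.mk' (fun b => ⟨⟨g * ((b : N) : X) * g⁻¹, hNn.conj_mem _ (b : N).2 g⟩, by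
        obtain ⟨b', hb', e⟩ := hgB b
        exact (Subtype.ext e : b' = ⟨g * ((b : N) : X) * g⁻¹, _⟩) ▸ hb'⟩)
        fun a b => Subtype.ext (Subtype.ext (by push_cast; group))
    have hσinj : Function.Injective σ := fun a b e => by
      have : g * ((a : N) : X) * g⁻¹ = g * ((b : N) : X) * g⁻¹ :=
        congrArg (fun w : B => ((w : N) : X)) e
      exact Subtype.ext (Subtype.ext (by simpa using this))
    have hσp : IsPGroup p ↥((R : Subgroup B).map σ) := R.2.map σ
    have hσidx : ¬ p ∣ ((R : Subgroup B).map σ).index := by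
      rw [Subgroup.index_map_of_bijective ⟨hσinj, Finite.injective_iff_surjective.mp hσinj⟩]
      exact hidx
    obtain ⟨c, hc⟩ := MulAction.exists_smul_eq B (hσp.toSylow hσidx) R
    refine ⟨c, c.2, Invol.mem_normalizer_of_map_le ?_⟩
    rintro _ ⟨_, ⟨r, hr, rfl⟩, rfl⟩
    have hrR : (⟨r, hEB (map_subtype_le _ hr)⟩ : B) ∈ (R : Subgroup B) := hr
    have hmem : c * σ ⟨r, hEB (map_subtype_le _ hr)⟩ * c⁻¹ ∈ (R : Subgroup B) := by
      rw [← hc]
      exact ⟨σ _, ⟨_, hrR, rfl⟩, rfl⟩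
    refine ⟨((c * σ ⟨r, hEB (map_subtype_le _ hr)⟩ * c⁻¹ : B) : N), hmem, ?_⟩
    simp only [σ, MonoidHom.mk'_apply, MulEquiv.coe_toMonoidHom, MulAut.conj_apply, Subgroup.coe_subtype]
    push_cast
    group
  obtain ⟨g, hg⟩ : ∃ g : X, g ∉ N := by
    by_contra h
    push Not at h
    exact hNtop (eq_top_iff.mpr fun g _ => h g)
  obtain ⟨a, ha, m, hm, rfl⟩ := Subgroup.mem_sup_of_normal_right.mp
    (hfrat.symm ▸ Subgroup.mem_top g : g ∈ normalizer (T : Set X) ⊔ N)
  obtain ⟨b, hb, hbQ⟩ := hfrat2 a ha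
  set l := (b : X) * a with hl
  have hlT : l ∈ normalizer (T : Set X) := by
    refine mul_mem ?_ ha
    have hb' := Subgroup.le_normalizer_map N.subtype ⟨b, hb, rfl⟩
    exact hb'
  have hlN : l ∉ N := fun h => hg (by
    rw [show a * m = (b : X)⁻¹ * l * m by rw [hl]; group]
    exact mul_mem (mul_mem (inv_mem b.2) h) hm)
  -- the involution
  obtain ⟨y, hyN, hy2, hyT, hyQ⟩ : ∃ y : X, y ∉ N ∧ orderOf y = 2 ∧
      y ∈ normalizer (T : Set X) ∧ y ∈ normalizer (Q : Set X) := by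
    obtain ⟨i, r, hr, hir⟩ := Nat.exists_eq_two_pow_mul_odd (n := orderOf l) (orderOf_pos l).ne'
    set l₁ := l ^ r with hl₁
    have hl₁N : l₁ ∉ N := by
      intro h
      obtain ⟨j, hj⟩ := hpow l
      have h1 : (l : X ⧸ N) ^ r = 1 := by rw [← QuotientGroup.mk_pow]; exact (QuotientGroup.eq_one_iff _).mpr h
      have h2 : (l : X ⧸ N) ^ 2 ^ j = 1 := by
        rw [← QuotientGroup.mk_pow]; exact (QuotientGroup.eq_one_iff _).mpr hj
      exact hlN ((QuotientGroup.eq_one_iff _).mp (orderOf_eq_one_iff.mp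
        (Nat.eq_one_of_dvd_coprimes ((Nat.coprime_two_right.mpr hr).symm.pow_left j)
          (orderOf_dvd_of_pow_eq_one h2) (orderOf_dvd_of_pow_eq_one h1))))
    have hex : ∃ j, l₁ ^ 2 ^ j ∈ N := hpow l₁
    classical
    obtain ⟨j, hj⟩ : ∃ j, Nat.find hex = j + 1 := ⟨Nat.find hex - 1, by
      have : Nat.find hex ≠ 0 := fun h0 => hl₁N (by simpa [h0] using Nat.find_spec hex)
      omega⟩
    have hmax : l₁ ^ 2 ^ j ∉ N := Nat.find_min hex (by omega)
    have hmem : l₁ ^ 2 ^ (j + 1) ∈ N := hj ▸ Nat.find_spec hex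
    have hNT : l₁ ^ 2 ^ j ∈ normalizer (T : Set X) := pow_mem (pow_mem hlT _) _
    have hNQ : l₁ ^ 2 ^ j ∈ normalizer (Q : Set X) := pow_mem (pow_mem hbQ _) _
    refine ⟨l₁ ^ 2 ^ j, hmax, ?_, hNT, hNQ⟩
    refine Invol.orderOf_eq_two_of (fun h => hmax (by rw [h]; exact one_mem N)) ?_
    have hsq : l₁ ^ 2 ^ j * l₁ ^ 2 ^ j = l₁ ^ 2 ^ (j + 1) := by rw [← pow_add, pow_succ, mul_two]
    rw [hsq]
    set w : N := ⟨_, hmem⟩ with hw
    have hwB : w ∈ B := by
      refine mem_normalizer_iff.mpr fun v => ?_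
      have hmemT : ∀ w : N, w ∈ (P : Subgroup N) ↔ (w : X) ∈ T := fun w =>
        ⟨fun h => ⟨w, h, rfl⟩, fun ⟨w', hw', e⟩ => Subtype.ext e ▸ hw'⟩
      rw [hmemT, hmemT]
      have := mem_normalizer_iff.mp (show l₁ ^ 2 ^ (j + 1) ∈ normalizer (T : Set X) from
        pow_mem (pow_mem hlT _) _) (v : X)
      simpa using this
    have hwE : w ∈ E := hBQ w hwB (pow_mem (pow_mem hbQ _) _)
    have h2pow : (w : N) ^ 2 ^ i = 1 := Subtype.ext (by
      push_cast
      rw [hw]
      show (l₁ ^ 2 ^ (j + 1)) ^ 2 ^ i = 1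
      rw [← pow_mul, mul_comm, pow_mul, hl₁, ← pow_mul l r, mul_comm r, ← hir, pow_orderOf_eq_one, one_pow])
    have := Nat.Coprime.eq_one_of_dvd ((Nat.coprime_two_right.mpr (hEodd w hwE)).pow_right i)
      (orderOf_dvd_of_pow_eq_one h2pow)
    exact congrArg Subtype.val (orderOf_eq_one_iff.mp this)
  -- it inverts the complement
  have hyE : ∀ e : N, e ∈ E → ∃ e' : N, e' ∈ E ∧ (e' : X) = y * (e : X) * y⁻¹ := by
    intro e he
    refine ⟨⟨_, hNn.conj_mem _ e.2 y⟩, hBQ _ ?_ ?_, rfl⟩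
    · obtain ⟨b', hb', eb⟩ := (mem_normalizer_iff.mp (hBn hyT) _).mp ⟨e, hE.le_normalizer he, rfl⟩
      exact (Subtype.ext eb : b' = ⟨y * (e : X) * y⁻¹, hNn.conj_mem _ e.2 y⟩) ▸ hb'
    · refine mul_mem (mul_mem hyQ ?_) (inv_mem hyQ)
      refine mem_normalizer_iff.mpr fun r => ?_
      constructor
      · rintro ⟨r', hr', rfl⟩
        refine ⟨r', hr', ?_⟩
        have hc : e * r' * e⁻¹ = r' :=
          mul_inv_eq_iff_eq_mul.mpr (hcomm _ he _ (map_subtype_le _ hr'))
        conv_lhs => rw [← hc]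
        simp
      · rintro ⟨r', hr', hr⟩
        refine ⟨r', hr', ?_⟩
        have hc : e⁻¹ * r' * e = r' := by
          rw [mul_assoc, ← hcomm _ he _ (map_subtype_le _ hr'), inv_mul_cancel_left]
        rw [← hc, map_mul, map_mul, map_inv, hr]
        simp only [Subgroup.coe_subtype]
        group
  have hinv : ∀ e : N, e ∈ E → y * (e : X) * y⁻¹ = (e : X)⁻¹ := by
    intro e he
    obtain ⟨e', he', hye⟩ := hyE e he
    have hfix : Commute y ((e : X) * (y * (e : X) * y⁻¹)) := by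
      have hc : (e : X) * (e' : X) = (e' : X) * (e : X) := congrArg Subtype.val (hcomm e he e' he')
      show y * ((e : X) * (y * (e : X) * y⁻¹)) = (e : X) * (y * (e : X) * y⁻¹) * y
      rw [← hye]
      conv_rhs => rw [hc, hye]
      rw [hye]
      calc y * ((e : X) * (y * (e : X) * y⁻¹)) = y * (e : X) * (y * (e : X)) * y⁻¹ := by group
        _ = _ := by rw [Invol.inv_eq_self hy2]; group
    have h1 : ((e * e' : N) : X) = 1 := eq_one_of_odd_two (hX.cit y hy2)
      (mem_centralizer_singleton_iff.mpr (by push_cast; rw [hye]; exact hfix.eq.symm))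
      (by rw [Subgroup.orderOf_coe]; exact hEodd _ (mul_mem he he'))
    push_cast at h1
    rw [hye] at h1
    exact eq_inv_of_mul_eq_one_right h1
  have hqX : Odd (orderOf ((q : N) : X)) := by rw [Subgroup.orderOf_coe]; exact hEodd q hqE
  have hc : Commute ((q : N) : X) (y * (t : X)) := by
    have h1 := hinv q⁻¹ (inv_mem hqE)
    have h2 : (t : X) * (q : X) * (t : X)⁻¹ = ((q⁻¹ : N) : X) := congrArg Subtype.val (hE.inverts q hqE)
    have h3 : y * (t : X) * (q : X) * (y * (t : X))⁻¹ = (q : X) := by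
      calc y * (t : X) * (q : X) * (y * (t : X))⁻¹ = y * ((t : X) * (q : X) * (t : X)⁻¹) * y⁻¹ := by group
        _ = (q : X) := by rw [h2, h1]; simp
    exact (mul_inv_eq_iff_eq_mul.mp h3).symm
  have hodd : Odd (orderOf (y * (t : X))) := by
    by_contra hev
    rw [Nat.not_odd_iff_even, even_iff_two_dvd] at hev
    have ho : orderOf ((y * (t : X)) ^ (orderOf (y * (t : X)) / 2)) = 2 := by
      rw [orderOf_pow, Nat.gcd_eq_right (Nat.div_dvd_of_dvd hev), Nat.div_div_self hev (orderOf_pos _).ne']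
    exact hq1 (Subtype.ext (eq_one_of_odd_two (hX.cit _ ho)
      (mem_centralizer_singleton_iff.mpr (hc.pow_right _).eq) hqX))
  obtain ⟨j, hj⟩ := hpow (y * (t : X))
  have hyt : y * (t : X) ∈ N := by
    have hcop : (2 ^ j).Coprime (orderOf (y * (t : X))) :=
      ((Nat.coprime_two_right.mpr hodd).symm).pow_left j
    have h1 : ((y * (t : X) : X) : X ⧸ N) ^ 2 ^ j = 1 := by
      rw [← QuotientGroup.mk_pow]; exact (QuotientGroup.eq_one_iff _).mpr hj
    exact (QuotientGroup.eq_one_iff _).mp (orderOf_eq_one_iff.mp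
      (Nat.eq_one_of_dvd_coprimes hcop (orderOf_dvd_of_pow_eq_one h1)
        (orderOf_map_dvd (QuotientGroup.mk' N) _)))
  exact hyN (by simpa using mul_mem hyt (inv_mem t.2))

/-- §3 (a), (b). -/
theorem QMod.cases (hX : QMod ρ) [Nontrivial X] {n : ℕ}
    (hK : SmallerKnown.{u} n) (hn : Nat.card X < n) (hti : TIHolds.{u}) :
    (∀ u v : X, orderOf u = 2 → orderOf v = 2 → u * v = v * u → u = v) ∨
      (IsSimpleGroup X ∧ ¬ IsMulCommutative X ∧ SylowTI X ∧ oddCore X = ⊥) := by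
  by_cases hO : oddCore X = ⊥
  · obtain ⟨h1, h2, h3⟩ := hX.simple_of_oddCore_bot hO hK hn hti
    exact Or.inr ⟨h1, h2, h3, hO⟩
  · exact Or.inl fun u v hu hv hc => eq_of_commute_of_oddCore hX.cit hO hu hv hc

/-- All involutions of a Sylow 2-subgroup are central in it. -/
theorem QMod.central (hX : QMod ρ) [Nontrivial X] {n : ℕ}
    (hK : SmallerKnown.{u} n) (hn : Nat.card X < n) (hti : TIHolds.{u}) (S : Sylow 2 X) {z : X}
    (hz : z ∈ (S : Subgroup X)) (hz2 : orderOf z = 2) : ∀ s ∈ (S : Subgroup X), s * z = z * s := by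
  haveI : Fact (Nat.Prime 2) := ⟨Nat.prime_two⟩
  rcases hX.cases hK hn hti with h | ⟨hs, hna, hTI, hO⟩
  · haveI : Nontrivial (S : Subgroup X) := ⟨⟨⟨z, hz⟩, 1, fun e => Invol.ne_one hz2 (congrArg Subtype.val e)⟩⟩
    obtain ⟨c, -, hcc, hc⟩ := PGroup.exists_mem_center_orderOf_eq S.2
      (N := (⊤ : Subgroup (S : Subgroup X))) top_ne_bot
    have hcz : (c : X) = z := h c z (by rw [Subgroup.orderOf_coe, hc]) hz2
      (congrArg Subtype.val (mem_center_iff.mp hcc ⟨z, hz⟩)).symm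
    intro s hs
    rw [← hcz]
    exact congrArg Subtype.val (mem_center_iff.mp hcc ⟨s, hs⟩)
  · obtain ⟨E, t, hE⟩ := hti X S (hX.tiData hna hO hTI S)
    exact fun s hs => hE.central (hX.tiData hna hO hTI S) z hz hz2 s hs

/-- §3 (a): the Sylow 2-subgroups are TI. -/
theorem QMod.sylowTI (hX : QMod ρ) [Nontrivial X] {n : ℕ}
    (hK : SmallerKnown.{u} n) (hn : Nat.card X < n) (hti : TIHolds.{u}) : SylowTI X :=
  sylowTI_of_central hX.cit fun S _ hz hz2 => hX.central hK hn hti S hz hz2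

end Cfsg.Lib.CIT
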