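import Cfsg.Agent.Lib.CIT.Basic
import Cfsg.Agent.Lib.Invol.BaerSuzuki

/-!
# A CIT group acting fixed point freely on an elementary abelian two-group

The linear algebra of §3 of `notes/cit_lead.md`: an involution fixes exactly the square root, four groups
normalized by elements of order three are quadratic, and `C₃ × C₃` cannot act fixed point freely.
-/

set_option autoImplicit false
set_option linter.style.haveILetI false
set_option linter.unusedSectionVars false

namespace Cfsg.Lib.CIT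

open Subgroup

universe u

/-- `X` acts faithfully on the elementary abelian two-group `V`, without nontrivial normal two-subgroup,
and every nontrivial element of odd order acts without fixed points. -/
structure QMod {X V : Type u} [Group X] [Group V] (ρ : X →* MulAut V) : Prop where
  cit : IsCIT X
  inj : Function.Injective ρ
  comm : ∀ v w : V, v * w = w * v
  vsq : ∀ v : V, v * v = 1
  nontrivial : Nontrivial V
  fpf : ∀ x : X, x ≠ 1 → Odd (orderOf x) → ∀ v, ρ x v = v → v = 1
  two_core : ∀ N : Subgroup X, N.Normal → IsPGroup 2 N → N = ⊥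

namespace QMod

variable {X V : Type u} [Group X] [Group V] [Finite X] [Finite V] {ρ : X →* MulAut V}

/-- The fixed points of `x`. -/
def fix (ρ : X →* MulAut V) (x : X) : Subgroup V :=
  (ρ x).toMonoidHom.eqLocus (MonoidHom.id V)

theorem mem_fix {x : X} {v : V} : v ∈ fix ρ x ↔ ρ x v = v := Iff.rfl

/-- The fixed points of a subgroup. -/
def fixAll (ρ : X →* MulAut V) (K : Subgroup X) : Subgroup V := ⨅ k : K, fix ρ (k : X)

theorem mem_fixAll {K : Subgroup X} {v : V} : v ∈ fixAll ρ K ↔ ∀ k ∈ K, ρ k v = v := by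
  simp only [fixAll, mem_iInf, mem_fix, Subtype.forall]

theorem fixAll_le_fix {K : Subgroup X} {x : X} (hx : x ∈ K) : fixAll ρ K ≤ fix ρ x :=
  fun _ hv => mem_fixAll.mp hv x hx

theorem act_mul (x y : X) (v : V) : ρ (x * y) v = ρ x (ρ y v) := by rw [map_mul]; rfl

theorem act_one (v : V) : ρ 1 v = v := by rw [map_one]; rfl

variable (hX : QMod ρ)
include hX

theorem inv_eq (v : V) : v⁻¹ = v := inv_eq_of_mul_eq_one_right (hX.vsq v)

theorem isPGroup : IsPGroup 2 V := fun v => ⟨1, by rw [pow_one, sq]; exact hX.vsq v⟩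

theorem eq_of_mul_eq_one {v w : V} (h : v * w = 1) : v = w :=
  (eq_inv_of_mul_eq_one_left h).trans (hX.inv_eq w)

/-- `v ↦ [v, x]`. -/
def del (x : X) : V →* V :=
  MonoidHom.mk' (fun v => ρ x v * v) fun a b => by
    rw [map_mul, mul_assoc, mul_assoc]
    congr 1
    rw [← mul_assoc, hX.comm (ρ x b) a, mul_assoc]

theorem del_apply (x : X) (v : V) : hX.del x v = ρ x v * v := rfl

theorem act_eq (x : X) (v : V) : ρ x v = hX.del x v * v := by
  rw [del_apply, mul_assoc, hX.vsq, mul_one]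

theorem ker_del (x : X) : (hX.del x).ker = fix ρ x := by
  ext v
  rw [MonoidHom.mem_ker, del_apply, mem_fix]
  exact ⟨fun h => hX.eq_of_mul_eq_one h, fun h => by rw [h, hX.vsq]⟩

theorem range_del_le {x : X} (hx : x * x = 1) : (hX.del x).range ≤ fix ρ x := by
  rintro _ ⟨v, rfl⟩
  rw [mem_fix, del_apply, map_mul, ← act_mul, hx, act_one, hX.comm]

theorem card_le_fix_sq {x : X} (hx : x * x = 1) : Nat.card V ≤ Nat.card (fix ρ x) ^ 2 := by
  have h1 := Subgroup.card_le_of_le (hX.range_del_le hx)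
  have h2 := (hX.del x).ker.card_mul_index
  rw [Subgroup.index_ker, hX.ker_del] at h2
  rw [← h2, sq]
  exact Nat.mul_le_mul_left _ h1

/-- An involution of `X` inverts a nontrivial element of odd order. -/
theorem exists_inverted {u : X} (hu : orderOf u = 2) :
    ∃ x : X, x ≠ 1 ∧ Odd (orderOf x) ∧ u * x * u⁻¹ = x⁻¹ :=
  Invol.exists_inverted_odd hu fun N hN hN2 hmem => Invol.ne_one hu (by
    rw [hX.two_core N hN hN2] at hmem; exact hmem)

theorem card_fix_sq {u : X} (hu : orderOf u = 2) : Nat.card (fix ρ u) ^ 2 = Nat.card V := by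
  refine le_antisymm ?_ (hX.card_le_fix_sq (Invol.inv_mul_self hu))
  obtain ⟨x, hx1, hxo, hux⟩ := hX.exists_inverted hu
  have hinj : Function.Injective fun p : fix ρ u × fix ρ u => (p.1 : V) * ρ x p.2 := by
    rintro ⟨a, b⟩ ⟨a', b'⟩ e
    simp only at e
    have hd : ρ x ((b : V) * (b' : V)⁻¹) = (a : V)⁻¹ * a' := by
      rw [map_mul, map_inv, eq_inv_mul_iff_mul_eq, ← mul_assoc, e, mul_inv_cancel_right]
    have hmem : ρ x ((b : V) * (b' : V)⁻¹) ∈ fix ρ u := by
      rw [hd]; exact mul_mem (inv_mem a.2) a'.2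
    set c := (b : V) * (b' : V)⁻¹ with hc
    have hcu : ρ u c = c := mem_fix.mp (mul_mem b.2 (inv_mem b'.2))
    have hxc : ρ u (ρ x c) = ρ x c := mem_fix.mp hmem
    have h1 : ρ x⁻¹ c = ρ x c := by
      rw [← hxc, ← hux, act_mul, act_mul, inv_eq_of_mul_eq_one_right (Invol.inv_mul_self hu), hcu]
    have h2 : ρ (x * x) c = c := by
      conv_lhs => rw [act_mul, ← h1, ← act_mul, mul_inv_cancel, act_one]
    have hxx : Odd (orderOf (x * x)) := by
      rw [← sq, Nat.Coprime.orderOf_pow (Nat.coprime_two_right.mpr hxo)]; exact hxo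
    have hxx1 : x * x ≠ 1 := fun h => hx1 (orderOf_eq_one_iff.mp
      (Nat.Coprime.eq_one_of_dvd (Nat.coprime_two_right.mpr hxo)
        (orderOf_dvd_of_pow_eq_one (by rw [sq, h]))))
    have hc1 : c = 1 := hX.fpf _ hxx1 hxx c h2
    have hb : b = b' := Subtype.ext (mul_inv_eq_one.mp hc1)
    rw [hb] at e
    exact Prod.ext (Subtype.ext (mul_right_cancel e)) hb
  calc Nat.card (fix ρ u) ^ 2 = Nat.card (fix ρ u × fix ρ u) := by rw [Nat.card_prod, sq]
    _ ≤ Nat.card V := Nat.card_le_card_of_injective _ hinj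

theorem fix_eq_of_le {a c : X} (ha : orderOf a = 2) (hc : orderOf c = 2)
    (h : fix ρ a ≤ fix ρ c) : fix ρ a = fix ρ c :=
  Subgroup.eq_of_le_of_card_ge h (le_of_eq (Nat.pow_left_injective two_ne_zero
    ((hX.card_fix_sq hc).trans (hX.card_fix_sq ha).symm)))

theorem range_del {u : X} (hu : orderOf u = 2) : (hX.del u).range = fix ρ u := by
  refine Subgroup.eq_of_le_of_card_ge (hX.range_del_le (Invol.inv_mul_self hu)) ?_
  have h2 := (hX.del u).ker.card_mul_index
  rw [Subgroup.index_ker, hX.ker_del, ← hX.card_fix_sq hu, sq] at h2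
  exact (Nat.eq_of_mul_eq_mul_left Nat.card_pos h2).ge

theorem norm_three {x : X} (hx : orderOf x = 3) (v : V) : v * ρ x v * ρ x (ρ x v) = 1 := by
  refine hX.fpf x (fun e => by rw [e, orderOf_one] at hx; omega) (by rw [hx]; decide) _ ?_
  have h3 : ρ x (ρ x (ρ x v)) = v := by
    rw [← act_mul, ← act_mul, show x * x * x = x ^ orderOf x by rw [hx, pow_succ, pow_two],
      pow_orderOf_eq_one, act_one]
  rw [map_mul, map_mul, h3, mul_assoc v, hX.comm v]

/-- A four group normalized by an element of order three is quadratic: two of its involutions have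
the same fixed points. -/
theorem fix_four {a b x : X} (ha : orderOf a = 2) (hb : orderOf b = 2) (hab : a * b = b * a)
    (hne : a ≠ b) (hx : orderOf x = 3) (hxa : x * a * x⁻¹ = b) (hxb : x * b * x⁻¹ = a * b) :
    fix ρ a = fix ρ (a * b) := by
  have hab2 : orderOf (a * b) = 2 := Invol.orderOf_eq_two_of
    (fun h => hne ((eq_inv_of_mul_eq_one_left h).trans (Invol.inv_eq_self hb)))
    (by rw [mul_assoc, ← mul_assoc b, ← hab, mul_assoc a b b, Invol.inv_mul_self hb, mul_one,
      Invol.inv_mul_self ha])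
  have hxxx : x * x * x = 1 := by
    rw [show x * x * x = x ^ orderOf x by rw [hx, pow_succ, pow_two], pow_orderOf_eq_one]
  have hsq : a * x * (a * x) = a * b * (x * x) := by
    rw [← hxa]; group
  have hax : orderOf (a * x) = 3 := by
    refine orderOf_eq_prime ?_ ?_
    · rw [pow_succ, pow_two, hsq]
      calc a * b * (x * x) * (a * x) = a * b * (x * (x * a * x⁻¹) * x⁻¹) * (x * x * x) := by group
        _ = 1 := by rw [hxa, hxb, hxxx, mul_one, Invol.inv_mul_self hab2]
    · intro h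
      rw [eq_inv_of_mul_eq_one_right h, orderOf_inv, ha] at hx
      omega
  have key : ∀ v : V, hX.del a v = hX.del (a * b) (ρ x v) := by
    intro v
    obtain ⟨w, rfl⟩ : ∃ w, ρ x w = v := ⟨(ρ x).symm v, (ρ x).apply_symm_apply v⟩
    have e2 := hX.norm_three hax w
    rw [← act_mul (a * x) (a * x), hsq, act_mul (a * b), act_mul a, act_mul x x] at e2
    have e1 := hX.norm_three hx w
    rw [hX.act_eq a (ρ x w), hX.act_eq (a * b) (ρ x (ρ x w))] at e2
    set p := hX.del a (ρ x w)
    set r := hX.del (a * b) (ρ x (ρ x w))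
    apply hX.eq_of_mul_eq_one
    calc p * r = p * r * (w * ρ x w * ρ x (ρ x w)) := by rw [e1, mul_one]
      _ = w * (p * ρ x w) * (r * ρ x (ρ x w)) := by
        letI : CommGroup V := { ‹Group V› with mul_comm := hX.comm }
        simp only [mul_comm, mul_left_comm]
      _ = 1 := e2
  refine hX.fix_eq_of_le ha hab2 ?_
  rw [← hX.range_del ha, ← hX.range_del hab2]
  rintro _ ⟨v, rfl⟩
  exact ⟨ρ x v, (key v).symm⟩

/-- Involutions with the same fixed points commute. -/
theorem commute_of_fix_eq {a d : X} (ha : a * a = 1) (hd : d * d = 1)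
    (h : fix ρ a = fix ρ d) : a * d = d * a := by
  refine hX.inj (MulEquiv.ext fun v => ?_)
  have h1 : ρ a (hX.del d v) = hX.del d v := mem_fix.mp (h ▸ hX.range_del_le hd ⟨v, rfl⟩)
  have h2 : ρ d (hX.del a v) = hX.del a v := mem_fix.mp (h.symm ▸ hX.range_del_le ha ⟨v, rfl⟩)
  rw [act_mul, act_mul, hX.act_eq d v, map_mul, h1, hX.act_eq a v, map_mul, h2, hX.act_eq d v,
    ← mul_assoc, ← mul_assoc, hX.comm (hX.del d v)]

/-- `C₃ × C₃` cannot act fixed point freely. -/
theorem no_nine {x y : X} (hx : orderOf x = 3) (hy : orderOf y = 3) (hc : x * y = y * x)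
    (hxy : x * y ≠ 1) (hxy' : x * (y * y) ≠ 1) : False := by
  haveI := hX.nontrivial
  haveI : Fact (Nat.Prime 3) := ⟨Nat.prime_three⟩
  obtain ⟨v, hv⟩ := exists_ne (1 : V)
  have hx3 : x ^ 3 = 1 := hx ▸ pow_orderOf_eq_one x
  have hy3 : y ^ 3 = 1 := hy ▸ pow_orderOf_eq_one y
  have e1 := hX.norm_three hx v
  have e2 := hX.norm_three hy v
  have e3 := hX.norm_three (x := x * y) (orderOf_eq_prime
    (by rw [(show Commute x y from hc).mul_pow, hx3, hy3, one_mul]) hxy) v
  have e4 := hX.norm_three (x := x * (y * y)) (orderOf_eq_prime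
    (by rw [((show Commute x y from hc).mul_right hc).mul_pow, (Commute.refl y).mul_pow, hx3, hy3,
      one_mul, one_mul]) hxy') v
  have f1 := congrArg (ρ x) e2
  have f2 := congrArg (ρ x) f1
  simp only [map_mul, map_one, MulAut.mul_apply] at e3 e4 f1 f2
  have hs : ∀ w, ρ y (ρ x w) = ρ x (ρ y w) := fun w => by rw [← act_mul, ← act_mul, hc]
  have h3y : ∀ w, ρ y (ρ y (ρ y w)) = w := fun w => by
    rw [← act_mul, ← act_mul, show y * y * y = y ^ 3 by rw [pow_succ, pow_two], hy3, act_one]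
  simp only [hs, h3y] at e3 e4
  apply hv
  letI : CommGroup V := { ‹Group V› with mul_comm := hX.comm }
  have hall : (v * ρ x v * ρ x (ρ x v)) * (v * ρ y v * ρ y (ρ y v)) *
      (v * ρ x (ρ y v) * ρ x (ρ x (ρ y (ρ y v)))) * (v * ρ x (ρ y (ρ y v)) * ρ x (ρ x (ρ y v))) *
      ((v * ρ y v * ρ y (ρ y v)) * (ρ x v * ρ x (ρ y v) * ρ x (ρ y (ρ y v))) *
        (ρ x (ρ x v) * ρ x (ρ x (ρ y v)) * ρ x (ρ x (ρ y (ρ y v))))) = 1 := by
    rw [e1, e2, e3, e4, f1, f2]; simp
  have hcancel : ∀ a1 a2 a3 a4 a5 a6 a7 a8 : V,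
      (v * a1 * a2) * (v * a3 * a4) * (v * a5 * a6) * (v * a7 * a8) *
        ((v * a3 * a4) * (a1 * a5 * a7) * (a2 * a8 * a6)) =
      (v * v) * (v * v) * (a1 * a1) * (a2 * a2) * (a3 * a3) * (a4 * a4) * (a5 * a5) * (a6 * a6) *
        (a7 * a7) * (a8 * a8) * v := fun a1 a2 a3 a4 a5 a6 a7 a8 => by
    simp only [mul_comm, mul_left_comm]
  rw [hcancel] at hall
  simpa [hX.vsq] using hall

end QMod

end Cfsg.Lib.CIT
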