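import Cfsg.Agent.Lib.CIT.Quot.Action
import Cfsg.Agent.Lib.Linear.PSLSmall
import Cfsg.Agent.S3864

/-!
# Two simple groups that do not act fixed point freely

A simple group with dihedral Sylow 2-subgroups of order at least eight and `PSL(3,4)`: neither can act
on an elementary abelian two-group so that all elements of odd order are fixed point free.
-/

set_option autoImplicit false
set_option linter.style.haveILetI false
set_option linter.unusedSectionVars false

namespace Cfsg.Lib.CIT

open Subgroup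

universe u

theorem zmod_two_pow_two_mul {k : ℕ} (j : ZMod (2 ^ (k + 1))) (h : j + j = 0) :
    j = 0 ∨ j = ((2 ^ k : ℕ) : ZMod (2 ^ (k + 1))) := by
  haveI : NeZero (2 ^ (k + 1)) := ⟨pow_ne_zero _ two_ne_zero⟩
  have hd : 2 ^ (k + 1) ∣ j.val + j.val := by
    rw [← ZMod.natCast_eq_zero_iff, Nat.cast_add, ZMod.natCast_zmod_val, h]
  have hpk : 2 ^ (k + 1) = 2 * 2 ^ k := pow_succ' 2 k
  obtain ⟨c, hc⟩ : 2 ^ k ∣ j.val := (Nat.mul_dvd_mul_iff_left two_pos).mp
    (Nat.dvd_trans (dvd_of_eq hpk.symm) (by rw [two_mul j.val]; exact hd))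
  have hlt : j.val < 2 * 2 ^ k := hpk ▸ j.val_lt
  have hc2 : c < 2 := by
    by_contra hge; push Not at hge
    have := Nat.mul_le_mul_left (2 ^ k) hge
    omega
  rcases (show c = 0 ∨ c = 1 by omega) with rfl | rfl
  · left; rw [← ZMod.natCast_zmod_val j, hc, mul_zero, Nat.cast_zero]
  · right; rw [← ZMod.natCast_zmod_val j, hc, mul_one]

variable {X V : Type u} [Group X] [Group V] [Finite X] [Finite V] {ρ : X →* MulAut V}

theorem QMod.no_dihedral (hX : QMod ρ) [IsSimpleGroup X] (hna : ¬ IsMulCommutative X)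
    (hd : HasDihedralSylow X) : False := by
  haveI : Fact (Nat.Prime 2) := ⟨Nat.prime_two⟩
  obtain ⟨S⟩ : Nonempty (Sylow 2 X) := inferInstance
  obtain ⟨k₁, hk₁, ⟨e⟩⟩ := hd S
  obtain ⟨k, rfl⟩ : ∃ k, k₁ = k + 1 := ⟨k₁ - 1, by omega⟩
  haveI : NeZero (2 ^ (k + 1)) := ⟨pow_ne_zero _ two_ne_zero⟩
  -- one class of involutions
  have hno2 : ∀ N : Subgroup X, N.Normal → N.index ≠ 2 := by
    intro N hN h2
    rcases hN.eq_bot_or_eq_top with rfl | rfl
    · rw [Subgroup.index_bot] at h2
      haveI := isCyclic_of_prime_card (p := 2) h2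
      exact hna IsCyclic.isMulCommutative
    · rw [Subgroup.index_top] at h2; omega
  have hconj : ∀ s t : X, orderOf s = 2 → orderOf t = 2 → IsConj s t := by
    rcases Cfsg.Agent.S3864.result S (k + 2) (by omega) ⟨e⟩ with ⟨hc, -⟩ | ⟨-, ⟨N, hN, h2⟩, -⟩ | ⟨-, P', N, hNn', hNc'⟩
    · intro s t hs ht
      have hsub := (Nat.card_eq_one_iff_unique.mp hc).1
      exact ConjClasses.mk_eq_mk_iff_isConj.mp (congrArg Subtype.val
        (@Subsingleton.elim _ hsub ⟨_, s, rfl, hs⟩ ⟨_, t, rfl, ht⟩))
    · exact absurd h2 (hno2 N hN)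
    · exfalso
      obtain ⟨hNn, hNc⟩ := And.intro hNn' hNc'
      rcases hNn.eq_bot_or_eq_top with rfl | rfl
      · exact bot_ne_top (hX.two_core ⊤ inferInstance
          ((Subgroup.isComplement'_bot_left.mp hNc) ▸ Sylow.isPGroup' _)).symm
      · have hb := Subgroup.isComplement'_top_left.mp hNc
        have h1 := Nat.card_congr (Sylow.equiv S P').toEquiv
        rw [Nat.card_congr e.toEquiv, DihedralGroup.nat_card] at h1
        rw [hb, Subgroup.card_bot] at h1
        have := pow_pos (two_pos : (0:ℕ) < 2) (k + 1)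
        omega
  -- the involutions
  set z₀ : DihedralGroup (2 ^ (k + 1)) := DihedralGroup.r ((2 ^ k : ℕ) : ZMod (2 ^ (k + 1))) with hz₀
  have hhalf : ((2 ^ k : ℕ) : ZMod (2 ^ (k + 1))) + ((2 ^ k : ℕ) : ZMod (2 ^ (k + 1))) = 0 := by
    rw [← Nat.cast_add, ZMod.natCast_eq_zero_iff, pow_succ', two_mul]
  have hneg : -((2 ^ k : ℕ) : ZMod (2 ^ (k + 1))) = ((2 ^ k : ℕ) : ZMod (2 ^ (k + 1))) :=
    neg_eq_of_add_eq_zero_left hhalf
  set z : X := (e.symm z₀ : X) with hz
  have hz_comm : ∀ s ∈ (S : Subgroup X), s * z = z * s := by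
    intro s hs
    have h : e ⟨s, hs⟩ * z₀ = z₀ * e ⟨s, hs⟩ := by
      rcases e ⟨s, hs⟩ with j | j
      · rw [hz₀, DihedralGroup.r_mul_r, DihedralGroup.r_mul_r]; exact congrArg _ (add_comm _ _)
      · rw [hz₀, DihedralGroup.sr_mul_r, DihedralGroup.r_mul_sr, sub_eq_add_neg, hneg]
    have h' := congrArg (fun x => ((e.symm x : (S : Subgroup X)) : X)) h
    simp only [map_mul, Subgroup.coe_mul, MulEquiv.symm_apply_apply] at h'
    exact h'
  have hord : ∀ x : DihedralGroup (2 ^ (k + 1)), orderOf (e.symm x : X) = orderOf x := fun x => by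
    rw [Subgroup.orderOf_coe, MulEquiv.orderOf_eq]
  have hz2 : orderOf z = 2 := by
    rw [hz, hord]
    refine Invol.orderOf_eq_two_of (fun h => ?_) (by rw [hz₀, DihedralGroup.r_mul_r, hhalf]; rfl)
    rw [hz₀, DihedralGroup.one_def, DihedralGroup.r.injEq, ZMod.natCast_eq_zero_iff] at h
    have := Nat.le_of_dvd (pow_pos (two_pos : (0:ℕ) < 2) k) h
    rw [pow_succ] at this
    have := pow_pos (two_pos : (0:ℕ) < 2) k
    omega
  -- the centralizer of `z` is `S`
  have hCz : centralizer ({z} : Set X) = (S : Subgroup X) :=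
    S.3 (hX.cit z hz2) fun s hs => mem_centralizer_singleton_iff.mpr (hz_comm s hs)
  have hcardS : 8 ≤ Nat.card (S : Subgroup X) := by
    rw [Nat.card_congr e.toEquiv, DihedralGroup.nat_card, pow_succ]
    have := Nat.pow_le_pow_right two_pos (show 1 ≤ k by omega)
    omega
  have hfix : ∀ i : ZMod (2 ^ (k + 1)),
      QMod.fix ρ z = QMod.fix ρ (z * (e.symm (DihedralGroup.sr i) : X)) := by
    intro i
    set b : X := (e.symm (DihedralGroup.sr i) : X) with hb
    have hb2 : orderOf b = 2 := by rw [hb, hord, DihedralGroup.orderOf_sr]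
    have hbS : b ∈ (S : Subgroup X) := (e.symm (DihedralGroup.sr i)).2
    have hzb : z * b = b * z := (hz_comm b hbS).symm
    have hne : z ≠ b := by
      intro h
      have := e.symm.injective (Subtype.ext h : e.symm z₀ = e.symm (DihedralGroup.sr i))
      rw [hz₀] at this
      simp at this
    have hzz : z * z = 1 := Invol.inv_mul_self hz2
    have hbb : b * b = 1 := Invol.inv_mul_self hb2
    -- the centralizer of `b` in `S`
    have hCb : ∀ s ∈ (S : Subgroup X), s * b = b * s → s = 1 ∨ s = z ∨ s = b ∨ s = z * b := by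
      intro s hs hc
      obtain ⟨d, hd⟩ : ∃ d, e.symm d = ⟨s, hs⟩ := ⟨e ⟨s, hs⟩, e.symm_apply_apply _⟩
      have hd' : (e.symm d : X) = s := congrArg Subtype.val hd
      have hdc : d * DihedralGroup.sr i = DihedralGroup.sr i * d := by
        apply e.symm.injective
        apply Subtype.ext
        rw [map_mul, map_mul, Subgroup.coe_mul, Subgroup.coe_mul, hd', ← hb, hc]
      rw [← hd']
      rcases d with j | j
      · rw [DihedralGroup.r_mul_sr, DihedralGroup.sr_mul_r, DihedralGroup.sr.injEq] at hdc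
        rcases zmod_two_pow_two_mul j (by linear_combination -hdc) with rfl | rfl
        · left; rw [← DihedralGroup.one_def, map_one]; rfl
        · right; left; rfl
      · rw [DihedralGroup.sr_mul_sr, DihedralGroup.sr_mul_sr, DihedralGroup.r.injEq] at hdc
        rcases zmod_two_pow_two_mul (j - i) (by linear_combination -hdc) with h | h
        · right; right; left; rw [sub_eq_zero.mp h]
        · right; right; right
          rw [← Subgroup.coe_mul, ← map_mul, hz₀, DihedralGroup.r_mul_sr,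
            show i - ((2 ^ k : ℕ) : ZMod (2 ^ (k + 1))) = j by linear_combination -h + hhalf * (-1)]
    -- the four group and the elements moving it
    set U : Subgroup X := Subgroup.closure {z, b} with hU
    have hUS : U ≤ (S : Subgroup X) := (closure_le _).mpr (by
      rintro x (rfl | rfl)
      · exact (e.symm z₀).2
      · exact hbS)
    have hUmem : ∀ u ∈ U, u = 1 ∨ u = z ∨ u = b ∨ u = z * b := by
      intro u hu
      refine Subgroup.closure_induction (p := fun u _ => u = 1 ∨ u = z ∨ u = b ∨ u = z * b)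
        ?_ ?_ ?_ ?_ hu
      · rintro x (rfl | rfl) <;> simp
      · simp
      · rintro x y - - hx hy
        have h1 : b * (z * b) = z := by rw [hzb, ← mul_assoc, hbb, one_mul]
        have h2 : z * (z * b) = b := by rw [← mul_assoc, hzz, one_mul]
        have h3 : z * b * z = b := by rw [hzb, mul_assoc, hzz, mul_one]
        have h4 : z * b * b = z := by rw [mul_assoc, hbb, mul_one]
        have h5 : z * b * (z * b) = 1 := by rw [← mul_assoc, h3, hbb]
        rcases hx with rfl | rfl | rfl | rfl <;> rcases hy with rfl | rfl | rfl | rfl <;>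
          simp [hzz, hbb, ← hzb, h1, h2, h3, h4, h5]
      · rintro x - hx
        rcases hx with rfl | rfl | rfl | rfl <;>
          simp [inv_eq_of_mul_eq_one_right hzz, inv_eq_of_mul_eq_one_right hbb, ← hzb]
    have hzU : z ∈ U := subset_closure (by simp)
    have hbU : b ∈ U := subset_closure (by simp)
    have hUcard : Nat.card U ≤ 4 := by
      have hsub : (U : Set X) ⊆ ({1, z, b, z * b} : Set X) := fun u hu => by
        simpa using hUmem u hu
      calc Nat.card U = (U : Set X).ncard := (Nat.card_coe_set_eq _)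
        _ ≤ ({1, z, b, z * b} : Set X).ncard := Set.ncard_le_ncard hsub (Set.toFinite _)
        _ ≤ 4 := by
          refine (Set.ncard_insert_le _ _).trans (Nat.add_le_add_right ?_ 1)
          refine (Set.ncard_insert_le _ _).trans (Nat.add_le_add_right ?_ 1)
          refine (Set.ncard_insert_le _ _).trans (Nat.add_le_add_right ?_ 1)
          exact (Set.ncard_singleton _).le
    -- growing a four group in a two-group
    have grow : ∀ P : Subgroup X, IsPGroup 2 P → U ≤ P → 8 ≤ Nat.card P →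
        ∃ g ∈ P, g ∉ U ∧ g ∈ normalizer (U : Set X) := by
      intro P hP hUP h8
      have hlt : U.subgroupOf P < ⊤ := lt_top_iff_ne_top.mpr fun h => by
        have := Subgroup.card_le_of_le (Subgroup.subgroupOf_eq_top.mp h)
        omega
      haveI := hP.isNilpotent
      obtain ⟨g, hgN, hgU⟩ := SetLike.exists_of_lt (Group.normalizerCondition_of_isNilpotent _ hlt)
      refine ⟨g, g.2, fun h => hgU h, mem_normalizer_iff.mpr fun u => ?_⟩
      constructor
      · intro hu
        exact (mem_normalizer_iff.mp hgN ⟨u, hUP hu⟩).mp hu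
      · intro hu
        have hmem : u ∈ P := by
          have := mul_mem (mul_mem (inv_mem g.2) (hUP hu)) g.2
          simpa [mul_assoc] using this
        exact (mem_normalizer_iff.mp hgN ⟨u, hmem⟩).mpr hu
    obtain ⟨h, hhS, hhU, hhN⟩ := grow _ S.2 hUS hcardS
    have hhz : h * z * h⁻¹ = z := by rw [hz_comm h hhS, mul_inv_cancel_right]
    have hhb : h * b * h⁻¹ = z * b := by
      rcases hUmem _ ((mem_normalizer_iff.mp hhN b).mp hbU) with hh | hh | hh | hh
      · exact absurd (conj_eq_one_iff.mp hh) (Invol.ne_one hb2)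
      · exact absurd (mul_left_cancel (mul_right_cancel (hh.trans hhz.symm))).symm hne
      · exfalso
        apply hhU
        rcases hCb h hhS (mul_inv_eq_iff_eq_mul.mp hh) with r | r | r | r <;> rw [r]
        exacts [one_mem _, hzU, hbU, mul_mem hzU hbU]
      · exact hh
    set P := centralizer ({b} : Set X) with hP
    have hUP : U ≤ P := (closure_le _).mpr (by
      rintro x (rfl | rfl)
      · exact mem_centralizer_singleton_iff.mpr hzb
      · exact mem_centralizer_singleton_iff.mpr rfl)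
    have hPcard : 8 ≤ Nat.card P := by
      obtain ⟨c, hc⟩ := isConj_iff.mp (hconj z b hz2 hb2)
      have hle : (centralizer ({z} : Set X)).map (MulAut.conj c).toMonoidHom ≤ P := by
        rintro _ ⟨s, hs, rfl⟩
        refine mem_centralizer_singleton_iff.mpr ?_
        show c * s * c⁻¹ * b = b * (c * s * c⁻¹)
        have hs' : s * z = z * s := mem_centralizer_singleton_iff.mp hs
        rw [← hc]
        calc c * s * c⁻¹ * (c * z * c⁻¹) = c * (s * z) * c⁻¹ := by group
          _ = c * z * c⁻¹ * (c * s * c⁻¹) := by rw [hs']; group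
      have := Subgroup.card_le_of_le hle
      rw [Subgroup.card_map_of_injective (MulAut.conj c).injective, hCz] at this
      omega
    obtain ⟨g, hgP, hgU, hgN⟩ := grow _ (hX.cit b hb2) hUP hPcard
    have hgb : g * b * g⁻¹ = b := by rw [mem_centralizer_singleton_iff.mp hgP, mul_inv_cancel_right]
    have hgz : g * z * g⁻¹ = z * b := by
      rcases hUmem _ ((mem_normalizer_iff.mp hgN z).mp hzU) with hh | hh | hh | hh
      · exact absurd (conj_eq_one_iff.mp hh) (Invol.ne_one hz2)
      · exfalso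
        apply hgU
        have hgS : g ∈ (S : Subgroup X) := hCz ▸ mem_centralizer_singleton_iff.mpr (mul_inv_eq_iff_eq_mul.mp hh)
        rcases hCb g hgS (mem_centralizer_singleton_iff.mp hgP) with r | r | r | r <;> rw [r]
        exacts [one_mem _, hzU, hbU, mul_mem hzU hbU]
      · exact absurd (mul_left_cancel (mul_right_cancel (hh.trans hgb.symm))) hne
      · exact hh
    set y := h * g with hy
    have hyz : y * z * y⁻¹ = b := by
      calc y * z * y⁻¹ = h * (g * z * g⁻¹) * h⁻¹ := by rw [hy]; group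
        _ = (h * z * h⁻¹) * (h * b * h⁻¹) := by rw [hgz]; group
        _ = b := by rw [hhz, hhb, ← mul_assoc, hzz, one_mul]
    have hyb : y * b * y⁻¹ = z * b := by
      calc y * b * y⁻¹ = h * (g * b * g⁻¹) * h⁻¹ := by rw [hy]; group
        _ = z * b := by rw [hgb, hhb]
    have hyzb : y * (z * b) * y⁻¹ = z := by
      calc y * (z * b) * y⁻¹ = (y * z * y⁻¹) * (y * b * y⁻¹) := by group
        _ = z := by rw [hyz, hyb, hzb, ← mul_assoc, hbb, one_mul]
    have h3z : y ^ 3 * z * (y ^ 3)⁻¹ = z := by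
      calc y ^ 3 * z * (y ^ 3)⁻¹ = y * (y * (y * z * y⁻¹) * y⁻¹) * y⁻¹ := by
            simp only [pow_succ, pow_zero, one_mul]; group
        _ = z := by rw [hyz, hyb, hyzb]
    have h3b : y ^ 3 * b * (y ^ 3)⁻¹ = b := by
      calc y ^ 3 * b * (y ^ 3)⁻¹ = y * (y * (y * b * y⁻¹) * y⁻¹) * y⁻¹ := by
            simp only [pow_succ, pow_zero, one_mul]; group
        _ = b := by rw [hyb, hyzb, hyz]
    have hy6 : (y ^ 3) * (y ^ 3) = 1 := by
      have hS3 : y ^ 3 ∈ (S : Subgroup X) :=
        hCz ▸ mem_centralizer_singleton_iff.mpr (mul_inv_eq_iff_eq_mul.mp h3z)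
      rcases hCb _ hS3 (mul_inv_eq_iff_eq_mul.mp h3b) with r | r | r | r <;> rw [r]
      · rw [one_mul]
      · exact hzz
      · exact hbb
      · calc z * b * (z * b) = z * (b * z) * b := by group
          _ = 1 := by rw [← hzb, ← mul_assoc, hzz, one_mul, hbb]
    set x := y ^ 3 * y with hx
    have hxz : x * z * x⁻¹ = b := by
      calc x * z * x⁻¹ = y ^ 3 * (y * z * y⁻¹) * (y ^ 3)⁻¹ := by rw [hx]; group
        _ = b := by rw [hyz, h3b]
    have hxb : x * b * x⁻¹ = z * b := by
      calc x * b * x⁻¹ = y ^ 3 * (y * b * y⁻¹) * (y ^ 3)⁻¹ := by rw [hx]; group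
        _ = (y ^ 3 * z * (y ^ 3)⁻¹) * (y ^ 3 * b * (y ^ 3)⁻¹) := by rw [hyb]; group
        _ = z * b := by rw [h3z, h3b]
    have hx3 : orderOf x = 3 := by
      haveI : Fact (Nat.Prime 3) := ⟨Nat.prime_three⟩
      refine orderOf_eq_prime ?_ fun h1 => hne ?_
      · calc x ^ 3 = (y ^ 3 * y ^ 3) * (y ^ 3 * y ^ 3) := by
              rw [hx, ← pow_succ, ← pow_mul, ← pow_add, ← pow_add]
          _ = 1 := by rw [hy6, one_mul]
      · rw [h1] at hxz; simpa using hxz
    exact hX.fix_four hz2 hb2 hzb hne hx3 hxz hxb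
  have hall : ∀ i : ZMod (2 ^ (k + 1)), QMod.fix ρ (e.symm (DihedralGroup.sr i) : X) = QMod.fix ρ z := by
    intro i
    rw [hfix (i + ((2 ^ k : ℕ) : ZMod (2 ^ (k + 1))))]
    congr 1
    rw [hz, ← Subgroup.coe_mul, ← map_mul, hz₀, DihedralGroup.r_mul_sr, add_sub_cancel_right]
  have hc := hX.commute_of_fix_eq
    (by rw [← Subgroup.coe_mul, ← map_mul, DihedralGroup.sr_mul_self, map_one]; rfl)
    (by rw [← Subgroup.coe_mul, ← map_mul, DihedralGroup.sr_mul_self, map_one]; rfl)
    ((hall 0).trans (hall 1).symm)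
  rw [← Subgroup.coe_mul, ← Subgroup.coe_mul, Subtype.coe_inj, ← map_mul, ← map_mul] at hc
  have h2 := e.symm.injective hc
  rw [DihedralGroup.sr_mul_sr, DihedralGroup.sr_mul_sr, DihedralGroup.r.injEq] at h2
  have h3 : ((2 : ℕ) : ZMod (2 ^ (k + 1))) = 0 := by push_cast; linear_combination h2
  rw [ZMod.natCast_eq_zero_iff] at h3
  have := Nat.le_of_dvd two_pos h3
  have := Nat.pow_le_pow_right two_pos (show 2 ≤ k + 1 by omega)
  omega

theorem QMod.no_linear_three_four (hX : QMod ρ) (h : IsoPSLThreeFour X) : False := by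
  obtain ⟨F, _, _, hF, ⟨e⟩⟩ := h
  classical
  haveI : Fact (Nat.Prime 3) := ⟨Nat.prime_three⟩
  obtain ⟨w, hw⟩ := exists_prime_orderOf_dvd_card' (G := Fˣ) 3
    (by rw [Nat.card_eq_fintype_card, Fintype.card_units, hF])
  have hw3 : (w : F) ^ 3 = 1 := by
    rw [← Units.val_pow_eq_pow_val, ← hw, pow_orderOf_eq_one, Units.val_one]
  have hw1 : (w : F) ≠ 1 := fun h => by
    rw [Units.val_eq_one] at h; rw [h, orderOf_one] at hw; omega
  have hw0 : (w : F) ≠ 0 := w.ne_zero
  let xm : Matrix (Fin 3) (Fin 3) F := !![(w : F), 0, 0; 0, (w : F) ^ 2, 0; 0, 0, 1]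
  let ym : Matrix (Fin 3) (Fin 3) F := !![0, 1, 0; 0, 0, 1; 1, 0, 0]
  let xs : Matrix.SpecialLinearGroup (Fin 3) F := ⟨xm, by
    simp [xm, Matrix.det_fin_three]; linear_combination hw3⟩
  let ys : Matrix.SpecialLinearGroup (Fin 3) F := ⟨ym, by simp [ym, Matrix.det_fin_three]⟩
  let cs : Matrix.SpecialLinearGroup (Fin 3) F := ⟨(w : F) ^ 2 • 1, by
    rw [Matrix.det_smul, Matrix.det_one, mul_one, Fintype.card_fin, ← pow_mul, mul_comm, pow_mul, hw3,
      one_pow]⟩
  set π := QuotientGroup.mk' (Subgroup.center (Matrix.SpecialLinearGroup (Fin 3) F))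
  have hcs : π cs = 1 := by
    refine (QuotientGroup.eq_one_iff _).mpr (Matrix.SpecialLinearGroup.mem_center_iff.mpr ⟨(w : F) ^ 2, ?_, ?_⟩)
    · rw [Fintype.card_fin, ← pow_mul, mul_comm, pow_mul, hw3, one_pow]
    · rw [Matrix.scalar_apply, ← Matrix.smul_one_eq_diagonal]
  have hne : ∀ A : Matrix.SpecialLinearGroup (Fin 3) F,
      (A.1 0 0 ≠ A.1 1 1 ∨ A.1 0 1 ≠ 0 ∨ A.1 0 2 ≠ 0) → π A ≠ 1 := by
    intro A hA h
    obtain ⟨r, -, hr⟩ := Matrix.SpecialLinearGroup.mem_center_iff.mp ((QuotientGroup.eq_one_iff A).mp h)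
    rw [← hr] at hA
    simp at hA
  have hxs : xs ^ 3 = 1 := Subtype.ext (by
    show xm ^ 3 = 1
    ext i j
    fin_cases i <;> fin_cases j <;> simp [xm, pow_succ, Matrix.mul_apply, Fin.sum_univ_three]
    all_goals (ring_nf; first | linear_combination hw3 | linear_combination ((w : F) ^ 3 + 1) * hw3))
  have hys : ys ^ 3 = 1 := Subtype.ext (by
    show ym ^ 3 = 1
    ext i j
    fin_cases i <;> fin_cases j <;> simp [ym, pow_succ, Matrix.mul_apply, Fin.sum_univ_three])
  have hcomm : xs * ys = cs * (ys * xs) := Subtype.ext (by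
    show xm * ym = ((w : F) ^ 2 • (1 : Matrix (Fin 3) (Fin 3) F)) * (ym * xm)
    rw [Matrix.smul_mul, one_mul]
    ext i j
    fin_cases i <;> fin_cases j <;> simp [xm, ym, Matrix.mul_apply, Fin.sum_univ_three]
    all_goals (ring_nf; first | linear_combination -hw3 | linear_combination hw3 |
      linear_combination -((w : F)) * hw3 | linear_combination ((w : F)) * hw3))
  have hπc : π xs * π ys = π ys * π xs := by
    rw [← map_mul, ← map_mul, hcomm, map_mul, hcs, one_mul]
  have hx1 : π xs ≠ 1 := hne _ (Or.inl (by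
    simp [xs, xm]
    intro h
    exact hw1 (mul_left_cancel₀ hw0 (by linear_combination -h))))
  have hy1 : π ys ≠ 1 := hne _ (Or.inr (Or.inl (by simp [ys, ym])))
  have hxy : π xs * π ys ≠ 1 := by
    rw [← map_mul]
    exact hne _ (Or.inr (Or.inl (by
      show (xm * ym) 0 1 ≠ 0
      simp [xm, ym, Matrix.mul_apply, Fin.sum_univ_three, hw0])))
  have hxy' : π xs * (π ys * π ys) ≠ 1 := by
    rw [← map_mul, ← map_mul]
    exact hne _ (Or.inr (Or.inr (by
      show (xm * (ym * ym)) 0 2 ≠ 0
      simp [xm, ym, Matrix.mul_apply, Fin.sum_univ_three, hw0])))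
  refine hX.no_nine (x := e.symm (π xs)) (y := e.symm (π ys)) ?_ ?_ ?_ ?_ ?_
  · rw [MulEquiv.orderOf_eq]; exact orderOf_eq_prime (by rw [← map_pow, hxs, map_one]) hx1
  · rw [MulEquiv.orderOf_eq]; exact orderOf_eq_prime (by rw [← map_pow, hys, map_one]) hy1
  · rw [← map_mul (e.symm), ← map_mul (e.symm), hπc]
  · rw [← map_mul, Ne, map_eq_one_iff _ e.symm.injective]; exact hxy
  · rw [← map_mul, ← map_mul, Ne, map_eq_one_iff _ e.symm.injective]; exact hxy'

end Cfsg.Lib.CIT
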